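import Cfsg.Agent.H991.D3.FiveRank

/-!
# The second node for `SU_5(q)`: `dim V = 10` or `13 ≤ dim V`

* `ten_of_one`, `fourteen_of_digits`;
* **`node1_five`**.
-/

set_option autoImplicit false

namespace Cfsg.Agent.H991.D3

open Cfsg Cfsg.Geo Matrix Cfsg.Agent.H876.D3
open LieClassical.HermBasic LieClassical.HermSiegel Cfsg.Agent.TitsThree.KSideU Cfsg.Agent.TitsThree.KSideUDesc
  Cfsg.Agent.TitsThree.WBridge Cfsg.Agent.TitsThree.SiegelGen Cfsg.Agent.TitsThree.Siegel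
  Cfsg.Agent.TitsThree.WittFrame

variable {K : Type} [Field K] [Fintype K] {N q m : ℕ} {hK : Fintype.card K = q ^ 2}
  {k : Type*} [Field k] {V : Type*} [AddCommGroup V] [Module k V] [FiniteDimensional k V]
  {j : K →+* k} {θ : Fin m → ℕ}

theorem exists_aniso {W : WFrame (PU hK N) m} (hV0 : W.V0 ≠ ⊥) :
    ∃ d ∈ W.V0, hermForm N K q d d ≠ 0 ∧ ∃ μ : K, μ ^ q + μ + hermForm N K q d d = 0 := by
  obtain ⟨d, hd, hd0⟩ := (Submodule.ne_bot_iff _).1 hV0
  have h1 : hermForm N K q d d ≠ 0 := by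
    intro h
    apply hd0
    refine W.aniso d hd ?_
    change (0 : K) + 0 ^ q = -hermForm N K q d d
    rw [h, zero_pow_q hK, add_zero, neg_zero]
  obtain ⟨μ, hμ⟩ := exists_trace_eq hK (c := -hermForm N K q d d) (by
    rw [neg_pow_q hK, ← herm_swap hK])
  exact ⟨d, hd, h1, μ, by linear_combination hμ⟩

theorem lower_five {W : WFrame (PU hK N) m} (hm : 2 ≤ m) (hV0 : W.V0 ≠ ⊥) {vv : (Fin m → Fin N → K) → V}
    {ff : (Fin m → Fin N → K) → Module.Dual k V} (h : IsKer q 2 j θ vv ff)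
    (hθ : ∀ i : Fin m, (i : ℕ) ≠ 1 → θ i = 0) (hθ0 : θ ⟨1, by omega⟩ ≠ 0)
    (hE : ∀ g : K, g ^ q = g → g ^ θ ⟨1, by omega⟩ = g) {a : ℕ} {ε : K} (hε : ε ≠ 0) (ha : a + 1 ≤ q)
    (hx : ∀ x : K, x ^ (q + 1) = 1 → (x - 1) ^ θ ⟨1, by omega⟩ = ε * (x ^ a - x ^ (a + 1))) :
    6 + 4 * (({a, a + 1} : Finset ℕ).erase 0).card ≤ Module.finrank k V := by
  classical
  obtain ⟨d, hd, hη, μ, hμ⟩ := exists_aniso hV0
  have h1 := rk_five hK (j := j) hη hμ hθ0 hE hε ha hx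
  exact le_finrank_v5 hm hd h hθ (fun x => iso_fR hK hμ x) (fun x => iso_fC hK hμ x) h1

/-- Plücker coordinates in dimension `5` -/
def plT (x y : Fin 5 → K) : Fin 10 → K :=
  ![x 0 * y 1 - x 1 * y 0, x 0 * y 2 - x 2 * y 0, x 0 * y 3 - x 3 * y 0, x 0 * y 4 - x 4 * y 0,
    x 1 * y 2 - x 2 * y 1, x 1 * y 3 - x 3 * y 1, x 1 * y 4 - x 4 * y 1, x 2 * y 3 - x 3 * y 2,
    x 2 * y 4 - x 4 * y 2, x 3 * y 4 - x 4 * y 3]

theorem sum_ten (f : Fin 10 → K) : ∑ i, f i = f 0 + f 1 + f 2 + f 3 + f 4 + f 5 + f 6 + f 7 + f 8 + f 9 := by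
  simp only [Fin.sum_univ_succ, Fin.sum_univ_zero, Fin.succ_zero_eq_one]
  simp only [add_zero, ← add_assoc]
  rfl

theorem le_ten {vv : (Fin m → Fin 5 → K) → V} {ff : (Fin m → Fin 5 → K) → Module.Dual k V}
    (hK : Fintype.card K = q ^ 2) (hm : 2 ≤ m) (h : IsKer q 2 j θ vv ff)
    (hθ : ∀ i : Fin m, (i : ℕ) ≠ 1 → θ i = 0) (h1 : θ ⟨1, by omega⟩ = 1) : Module.finrank k V ≤ 10 := by
  have hs : ∀ a b : K, (a - b) ^ q = a ^ q - b ^ q := fun a b => by
    rw [sub_eq_add_neg, add_pow_q hK, neg_pow_q hK, ← sub_eq_add_neg]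
  have h2 := h.finrank_le (α := Fin 10) (fun u b => j (plT (u ⟨0, by omega⟩) (u ⟨1, by omega⟩) b))
    (fun u b => jb hK j (plT (u ⟨0, by omega⟩) (u ⟨1, by omega⟩) b)) (fun u u' _ _ => by
      rw [prod_two hm hθ, h1, pow_one, Gr_one hm]
      simp only [jb_apply]
      simp only [← map_mul]
      rw [← map_sum]
      congr 1
      unfold hermForm
      rw [sum_ten]
      simp only [Fin.sum_univ_five, plT, Matrix.cons_val]
      simp only [hs, mul_pow]
      ring)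
  rwa [Fintype.card_fin] at h2

theorem ten_of_one {W : WFrame (PU hK 5) m} (hm : 2 ≤ m) (hV0 : W.V0 ≠ ⊥) {vv : (Fin m → Fin 5 → K) → V}
    {ff : (Fin m → Fin 5 → K) → Module.Dual k V} (h : IsKer q 2 j θ vv ff)
    (hθ : ∀ i : Fin m, (i : ℕ) ≠ 1 → θ i = 0) (h1 : θ ⟨1, by omega⟩ = 1) : Module.finrank k V = 10 := by
  refine le_antisymm (le_ten hK hm h hθ h1) ?_
  have hq2 := two_le hK
  have h2 := lower_five hm hV0 h hθ (by rw [h1]; norm_num) (fun g _ => by rw [h1, pow_one]) (a := 0) (ε := -1)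
    (neg_ne_zero.2 one_ne_zero) (by omega) (fun x _ => by rw [h1]; ring)
  have h3 : (({0, 0 + 1} : Finset ℕ).erase 0).card = 1 := by decide
  rw [h3] at h2
  omega

theorem fourteen_of_digits {W : WFrame (PU hK N) m} (hm : 2 ≤ m) (hV0 : W.V0 ≠ ⊥) {vv : (Fin m → Fin N → K) → V}
    {ff : (Fin m → Fin N → K) → Module.Dual k V} (h : IsKer q 2 j θ vv ff)
    (hθ : ∀ i : Fin m, (i : ℕ) ≠ 1 → θ i = 0) {u v : ℕ} (h1 : θ ⟨1, by omega⟩ = u + q * v)
    (huv : u + v = q) (hu : 1 ≤ u) (hv : 1 ≤ v) : 14 ≤ Module.finrank k V := by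
  have hq2 := two_le hK
  have h2 := lower_five hm hV0 h hθ (by rw [h1]; omega) (fun g hg => by
      rw [h1, pow_add, pow_mul, hg, ← pow_add, huv, hg]) (a := u) (ε := (-1) ^ v)
    (pow_ne_zero _ (neg_ne_zero.2 one_ne_zero)) (by omega) (fun x hx => by
      have hx0 : x ≠ 0 := by
        rintro rfl
        rw [zero_pow (by omega)] at hx
        exact zero_ne_one hx
      apply mul_left_cancel₀ (pow_ne_zero v hx0)
      have e1 : (x - 1) ^ q = x ^ q - 1 := by rw [sub_pow_q hK, one_pow]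
      have e2 : x ^ v * (x ^ q - 1) ^ v = (-1) ^ v * (x - 1) ^ v := by
        rw [← mul_pow, ← mul_pow]
        congr 1
        rw [pow_succ] at hx
        linear_combination hx
      rw [h1, pow_add, pow_mul, e1]
      have e3 : x ^ v * ((x - 1) ^ u * (x ^ q - 1) ^ v) = (-1) ^ v * ((x - 1) ^ (u + v)) := by
        rw [pow_add]
        linear_combination (x - 1) ^ u * e2
      rw [e3, huv, e1]
      have e4 : x ^ v * ((-1) ^ v * (x ^ u - x ^ (u + 1))) = (-1) ^ v * (x ^ (u + v) - x ^ (u + v + 1)) := by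
        ring
      rw [e4, huv, hx])
  have h3 : (({u, u + 1} : Finset ℕ).erase 0).card = 2 := by
    rw [Finset.erase_eq_of_notMem, Finset.card_pair (by omega)]
    rw [Finset.mem_insert, Finset.mem_singleton]
    omega
  rw [h3] at h2
  omega

/-- the second node, `N = 5`, with the exponent -/
theorem node1_five_aux {vv : (Fin m → Fin 5 → K) → V} {ff : (Fin m → Fin 5 → K) → Module.Dual k V}
    (p : ℕ) [hp : Fact p.Prime] [hcK : CharP K p] [CharP k p] (hm : 2 ≤ m) (W : WFrame (PU hK 5) m) (hV0 : W.V0 ≠ ⊥)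
    (h : IsKer q 2 j θ vv ff) (hθ : ∀ i : Fin m, (i : ℕ) ≠ 1 → θ i = 0) (h1θ : θ ⟨1, by omega⟩ ≠ 0) :
    ((∃ b, p ^ b < q ^ 2 ∧ θ ⟨1, by omega⟩ ≡ p ^ b [MOD (q ^ 2 - 1)]) ∧ Module.finrank k V = 10) ∨
      13 ≤ Module.finrank k V := by
  have hq2 := two_le hK
  have h1 := pair_bound p hm W h hθ h1θ
  set t := θ ⟨1, by omega⟩ with ht
  have h2 := two_le_card_Ib (p := p) (red_ne_zero q t)
  by_cases h3 : 3 ≤ (Ib p (red q t)).card
  · right
    refine le_trans ?_ h1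
    obtain ⟨n, hn⟩ : ∃ n, (Ib p (red q t)).card = n + 3 := ⟨(Ib p (red q t)).card - 3, by omega⟩
    rw [hn]
    have e1 : (n + 3) * (n + 3) = n * n + 6 * n + 9 := by ring
    have e2 : 0 ≤ n * n := Nat.zero_le _
    omega
  have h5 : ∃ a, red q t = p ^ a := by
    rcases Ib_cases (p := p) (red_ne_zero q t) with h5 | ⟨h5, -⟩ | ⟨h5, -⟩ | h5
    · exact h5
    all_goals omega
  obtain ⟨a, ha⟩ := h5
  obtain ⟨p', f, hp', hcp', hqf, hf⟩ := exists_prime_pow hK
  have hpp : p' = p := CharP.eq K hcp' hcK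
  subst hpp
  have haf : a < f := by
    have h6 := red_lt (e := t) hq2
    rw [ha, hqf] at h6
    exact (Nat.pow_lt_pow_iff_right hp'.one_lt).1 h6
  -- the twist
  set t1 := t * p' ^ (2 * f - a) with ht1
  have hpt : p' ^ a * t1 = t * q ^ 2 := by
    rw [ht1, hqf, ← pow_mul, mul_comm f 2]
    have e1 : p' ^ a * (t * p' ^ (2 * f - a)) = t * (p' ^ a * p' ^ (2 * f - a)) := by ring
    rw [e1, ← pow_add, Nat.add_sub_cancel' (by omega)]
  have ht10 : t1 ≠ 0 := mul_ne_zero h1θ (pow_ne_zero _ hp'.ne_zero)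
  have hA : IsKer q 2 j (fun i : Fin m => if (i : ℕ) = 1 then p' ^ a * t1 else 0) vv ff := by
    refine IsKer_congr h fun i x => ?_
    by_cases hi : (i : ℕ) = 1
    · have : i = ⟨1, by omega⟩ := Fin.ext hi
      rw [if_pos hi, this, ← ht, hpt, pow_mul, ← hK, FiniteField.pow_card]
    · rw [if_neg hi, hθ i hi]
  have hB := hA.twist a (θ' := fun i => if (i : ℕ) = 1 then t1 else 0) (fun i => by
    by_cases hi : (i : ℕ) = 1
    · rw [if_pos hi, if_pos hi]
    · rw [if_neg hi, if_neg hi, mul_zero])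
  set t2 := red (q ^ 2) t1 with ht2
  have hq22 : 2 ≤ q ^ 2 := by nlinarith
  have hC : IsKer q 2 (j.comp (iterateFrobenius K p' a)) (fun i : Fin m => if (i : ℕ) = 1 then t2 else 0) vv ff := by
    refine IsKer_congr hB fun i x => ?_
    by_cases hi : (i : ℕ) = 1
    · rw [if_pos hi, if_pos hi, ht2, ← hK, pow_red ht10]
    · rw [if_neg hi, if_neg hi]
  have ht20 : t2 ≠ 0 := red_ne_zero _ _
  have ht2le : t2 ≤ q ^ 2 - 1 := red_le hq22
  -- the digits
  have hdvd : (q - 1) ∣ q ^ 2 - 1 := by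
    have := Nat.sub_dvd_pow_sub_pow q 1 2
    rwa [one_pow] at this
  have hmod : t2 ≡ 1 [MOD (q - 1)] := by
    have e1 : t2 ≡ t1 [MOD (q - 1)] := (red_modEq ht10).of_dvd hdvd
    have e2 : p' ^ a ≡ t [MOD (q - 1)] := ha ▸ red_modEq h1θ
    have e3 : t1 ≡ q ^ 2 [MOD (q - 1)] := by
      rw [ht1]
      have e4 := (e2.symm.mul_right (p' ^ (2 * f - a)))
      rw [← pow_add, Nat.add_sub_cancel' (by omega), show p' ^ (2 * f) = q ^ 2 by rw [mul_comm, pow_mul, ← hqf]] at e4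
      exact e4
    have e5 : q ^ 2 ≡ 1 [MOD (q - 1)] := ((Nat.modEq_iff_dvd' (by omega)).2 hdvd).symm
    exact e1.trans (e3.trans e5)
  obtain ⟨u, v, huv, hu, hv⟩ : ∃ u v, t2 = u + q * v ∧ u ≤ q - 1 ∧ v ≤ q - 1 := by
    refine ⟨t2 % q, t2 / q, (Nat.mod_add_div t2 q).symm, ?_, ?_⟩
    · have := Nat.mod_lt t2 (show 0 < q by omega)
      omega
    · have h6 : t2 / q < q := by
        rw [Nat.div_lt_iff_lt_mul (by omega), ← sq]
        omega
      omega
  have hsum : u + v = 1 ∨ u + v = q := by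
    have e1 : q ≡ 1 [MOD (q - 1)] := ((Nat.modEq_iff_dvd' (by omega)).2 (dvd_refl _)).symm
    have e2 : u + v ≡ 1 [MOD (q - 1)] := by
      have e3 : u + q * v ≡ u + 1 * v [MOD (q - 1)] := (e1.mul_right v).add_left u
      rw [one_mul] at e3
      exact e3.symm.trans (huv ▸ hmod)
    have h6 : 1 ≤ u + v := by
      by_contra h7
      have : u = 0 := by omega
      have : v = 0 := by omega
      subst u v
      exact ht20 huv
    have h7 := (Nat.modEq_iff_dvd' h6).1 e2.symm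
    obtain ⟨n, hn⟩ := h7
    have h8 : n < 2 := by
      by_contra h9
      have h10 : (q - 1) * 2 ≤ (q - 1) * n := Nat.mul_le_mul_left _ (by omega)
      omega
    interval_cases n
    · left; omega
    · right; omega
  have hback : t ≡ p' ^ a * t2 [MOD (q ^ 2 - 1)] := by
    have e1 : t2 ≡ t1 [MOD (q ^ 2 - 1)] := red_modEq ht10
    have e2 : q ^ 2 ≡ 1 [MOD (q ^ 2 - 1)] := ((Nat.modEq_iff_dvd' (by omega)).2 (dvd_refl _)).symm
    have e3 := (e1.mul_left (p' ^ a))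
    rw [hpt] at e3
    have e4 := e2.mul_left t
    rw [mul_one] at e4
    exact (e3.trans e4).symm
  have hpaf : ∀ b, b < 2 * f → p' ^ b < q ^ 2 := by
    intro b hb
    rw [hqf, ← pow_mul, mul_comm f 2]
    exact Nat.pow_lt_pow_right hp'.one_lt hb
  rcases hsum with h6 | h6
  · left
    rcases Nat.eq_zero_or_pos v with hv0 | hv0
    · have hu1 : u = 1 := by omega
      subst hv0 hu1
      refine ⟨⟨a, hpaf a (by omega), ?_⟩, ten_of_one (W := W) hm hV0 hC (fun i hi => if_neg hi) (by simp [huv])⟩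
      rw [huv, mul_zero, add_zero, mul_one] at hback
      exact hback
    · have hv1 : v = 1 := by omega
      have hu0 : u = 0 := by omega
      subst hv1 hu0
      refine ⟨⟨a + f, hpaf _ (by omega), ?_⟩, ?_⟩
      · rw [huv, zero_add, mul_one] at hback
        rwa [pow_add, ← hqf]
      have hD := hC.twist f (θ' := fun i => if (i : ℕ) = 1 then 1 else 0) (fun i => by
        by_cases hi : (i : ℕ) = 1
        · rw [if_pos hi, if_pos hi, huv, hqf]; ring
        · rw [if_neg hi, if_neg hi, mul_zero])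
      exact ten_of_one (W := W) hm hV0 hD (fun i hi => if_neg hi) (by simp)
  · right
    have := fourteen_of_digits (W := W) hm hV0 hC (fun i hi => if_neg hi) (u := u) (v := v) (by simp [huv]) h6
      (by omega) (by omega)
    omega

/-- **The second node, `N = 5`.** -/
theorem node1_five {vv : (Fin m → Fin 5 → K) → V} {ff : (Fin m → Fin 5 → K) → Module.Dual k V}
    (p : ℕ) [hp : Fact p.Prime] [hcK : CharP K p] [CharP k p] (hm : 2 ≤ m) (W : WFrame (PU hK 5) m) (hV0 : W.V0 ≠ ⊥)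
    (h : IsKer q 2 j θ vv ff) (hθ : ∀ i : Fin m, (i : ℕ) ≠ 1 → θ i = 0) (h1θ : θ ⟨1, by omega⟩ ≠ 0) :
    Module.finrank k V = 10 ∨ 13 ≤ Module.finrank k V :=
  (node1_five_aux p hm W hV0 h hθ h1θ).imp_left And.right

/-- **The second node, `N = 5`, with the exponent.** -/
theorem node1_five_pow {vv : (Fin m → Fin 5 → K) → V} {ff : (Fin m → Fin 5 → K) → Module.Dual k V}
    (p : ℕ) [hp : Fact p.Prime] [hcK : CharP K p] [CharP k p] (hm : 2 ≤ m) (W : WFrame (PU hK 5) m) (hV0 : W.V0 ≠ ⊥)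
    (h : IsKer q 2 j θ vv ff) (hθ : ∀ i : Fin m, (i : ℕ) ≠ 1 → θ i = 0) (h1θ : θ ⟨1, by omega⟩ ≠ 0)
    (hle : θ ⟨1, by omega⟩ ≤ q ^ 2 - 1) :
    ((∃ a, θ ⟨1, by omega⟩ = p ^ a) ∧ Module.finrank k V = 10) ∨ 13 ≤ Module.finrank k V := by
  refine (node1_five_aux p hm W hV0 h hθ h1θ).imp_left fun h2 => ⟨?_, h2.2⟩
  obtain ⟨b, hb, hmod⟩ := h2.1
  refine ⟨b, ?_⟩
  have hq2 := two_le hK
  have h3 : 1 ≤ p ^ b := Nat.one_le_pow _ _ hp.out.pos
  have e1 : (θ ⟨1, by omega⟩ - 1) % (q ^ 2 - 1) = (p ^ b - 1) % (q ^ 2 - 1) := by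
    have h4 : θ ⟨1, by omega⟩ - 1 + 1 ≡ p ^ b - 1 + 1 [MOD (q ^ 2 - 1)] := by
      rw [Nat.sub_add_cancel (by omega), Nat.sub_add_cancel h3]
      exact hmod
    exact Nat.ModEq.add_right_cancel' 1 h4
  have h5 : 4 ≤ q ^ 2 := by nlinarith
  rw [Nat.mod_eq_of_lt (by omega), Nat.mod_eq_of_lt (by omega)] at e1
  omega

end Cfsg.Agent.H991.D3
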