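import Cfsg.Agent.H991.D3.Vec

/-!
# The last node, `m ≥ 3`: at least 14

Eight coordinate planes of three hyperbolic pairs and six more isotropic planes.
-/

set_option autoImplicit false
set_option maxRecDepth 20000

namespace Cfsg.Agent.H991.D3

open Cfsg Cfsg.Geo Matrix Cfsg.Agent.H876.D3
open LieClassical.HermBasic LieClassical.HermSiegel Cfsg.Agent.TitsThree.KSideU Cfsg.Agent.TitsThree.KSideUDesc
  Cfsg.Agent.TitsThree.WBridge Cfsg.Agent.TitsThree.SiegelGen Cfsg.Agent.TitsThree.Siegel
  Cfsg.Agent.TitsThree.WittFrame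

namespace Last

/-- the coordinate planes -/
def sg (z : Fin 8) (t : Fin 3) : Bool := Nat.testBit z t

def A (z : Fin 8) (t : Fin 3) (y : Fin 3 × Bool) : ℤ := if y = (t, sg z t) then 1 else 0

/-- the other two pairs -/
def oa : Fin 3 → Fin 3 := ![1, 0, 0]
def ob : Fin 3 → Fin 3 := ![2, 2, 1]

/-- the dual coordinates of the columns -/
def B (x : Fin 3 × Bool) (t : Fin 3) (y : Fin 3 × Bool) : ℤ :=
  if t = x.1 then (if y = x then 1 else 0)
  else if t = oa x.1 then (if y = (oa x.1, true) then 1 else if y = (ob x.1, false) then 1 else 0)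
  else (if y = (ob x.1, true) then 1 else if y = (oa x.1, false) then -1 else 0)

def P (z : Fin 8) (x : Fin 3 × Bool) : Prop := sg z x.1 = x.2 ∧ sg z (oa x.1) = sg z (ob x.1)

instance instDecP (z : Fin 8) (x : Fin 3 × Bool) : Decidable (P z x) := inferInstanceAs (Decidable (_ ∧ _))

theorem A_iso : ∀ z t t', ∑ y : Fin 3 × Bool, A z t y * A z t' (y.1, !y.2) = 0 := by decide +kernel

theorem B_iso : ∀ x t t', ∑ y : Fin 3 × Bool, B x t y * B x t' (y.1, !y.2) = 0 := by decide +kernel

theorem A_dual : ∀ z z', (Matrix.of fun t t' => ∑ y, A z t y * A z' t' y).det = if z = z' then 1 else 0 := by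
  simp only [Matrix.det_fin_three, Matrix.of_apply]
  decide +kernel

theorem A_B : ∀ z x, (Matrix.of fun t t' => ∑ y, A z t y * B x t' y).det = if P z x then 1 else 0 := by
  simp only [Matrix.det_fin_three, Matrix.of_apply]
  decide +kernel

theorem P_sum : ∀ x x', (∑ z : Fin 8, (if P z x then 1 else 0) * (if P z x' then 1 else 0) : ℕ) =
    if x.2 = x'.2 then (if x.1 = x'.1 then 2 else 1) else 0 := by
  decide +kernel

/-- a coordinate plane of the row -/
theorem exists_P : ∀ x, ∃ z, P z x := by decide +kernel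

variable {K : Type} [Field K] {q : ℕ}

/-- the coordinates of the rows -/
def C (q : ℕ) (w : K) (x : Fin 3 × Bool) (t : Fin 3) (y : Fin 3 × Bool) : K :=
  if t = x.1 then (if y = x then 1 else 0)
  else if t = oa x.1 then (if y = (oa x.1, true) then 1 else if y = (ob x.1, false) then w else 0)
  else (if y = (ob x.1, true) then 1 else if y = (oa x.1, false) then -w ^ q else 0)

theorem C_A {w : K} (hw : w * w ^ q = 1) (x : Fin 3 × Bool) (z : Fin 8) :
    (Matrix.of fun t t' => ∑ y, C q w x t y * (A z t' y : K)).det = if P z x then 1 else 0 := by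
  have h1 : ∀ t t', ∑ y, C q w x t y * (A z t' y : K) = C q w x t (t', sg z t') := by
    intro t t'
    rw [Finset.sum_eq_single (t', sg z t')]
    · simp [A]
    · intro y _ hy; simp [A, hy]
    · intro h; exact absurd (Finset.mem_univ _) h
  simp only [Matrix.det_fin_three, Matrix.of_apply, h1]
  obtain ⟨c, s⟩ := x
  fin_cases z <;> fin_cases c <;> cases s <;> simp [sg, C, P, oa, ob, hw, Nat.testBit]

set_option maxHeartbeats 4000000 in
theorem C_B {w : K} (hw : w * w ^ q = 1) (x x' : Fin 3 × Bool) :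
    (Matrix.of fun t t' => ∑ y, C q w x t y * (B x' t' y : K)).det =
      if x.2 = x'.2 then (if x.1 = x'.1 then (1 + w) * (1 + w ^ q) else 1) else 0 := by
  obtain ⟨c, s⟩ := x
  obtain ⟨c', s'⟩ := x'
  fin_cases c <;> fin_cases c' <;> cases s <;> cases s' <;>
    simp [Matrix.det_fin_three, Fintype.sum_prod_type, Fin.sum_univ_three, C, B, oa, ob, hw, add_comm (w ^ q) 1]

set_option maxHeartbeats 4000000 in
theorem C_iso [Fintype K] (hK : Fintype.card K = q ^ 2) (w : K) (x : Fin 3 × Bool) (t t' : Fin 3) :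
    ∑ y : Fin 3 × Bool, C q w x t y * C q w x t' (y.1, !y.2) ^ q = 0 := by
  have h0 : (0 : K) ^ q = 0 := zero_pow_q hK
  simp only [Fintype.sum_prod_type, Fin.sum_univ_three, Fintype.sum_bool, C]
  obtain ⟨c, s⟩ := x
  fin_cases c <;> cases s <;> fin_cases t <;> fin_cases t' <;>
    simp [h0, neg_pow_q hK, pow_q_pow_q hK, oa, ob]

end Last

variable {K : Type} [Field K] [Fintype K] {N q m : ℕ} {hK : Fintype.card K = q ^ 2} {W : WFrame (PU hK N) m}
  {k : Type*} [Field k] {V : Type*} [AddCommGroup V] [Module k V] [FiniteDimensional k V]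
  {r : ℕ} {j : K →+* k} {θ : Fin m → ℕ} {vv : (Fin m → Fin N → K) → V}
  {ff : (Fin m → Fin N → K) → Module.Dual k V}

include W in
theorem node_last' {i : Fin m} (h : IsKer q (i + 1) j θ vv ff) (h1 : 2 ≤ (i : ℕ)) (hθi : θ i ≠ 0)
    (hθ : ∀ i', i' ≠ i → θ i' = 0) : 14 ≤ Module.finrank k V := by
  obtain ⟨w, hw, hθw⟩ := exists_param hK j
  let τ : Fin 3 → Fin m := ![⟨i - 2, by omega⟩, ⟨i - 1, by omega⟩, i]
  have hτ : Function.Injective τ := by
    intro a b hab
    fin_cases a <;> fin_cases b <;> simp [τ, Fin.ext_iff] at hab ⊢ <;> omega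
  have hιr : ∀ t, (τ t : ℕ) < (i : ℕ) + 1 := by
    intro t
    fin_cases t <;> simp [τ]
  have hιτ : ∀ a : Fin m, (a : ℕ) < (i : ℕ) + 1 → a ∉ Set.range τ → a ∉ Set.range τ := fun _ _ h => h
  have e1 : ∀ z z' : Fin 8, (Matrix.of fun t t' => hermForm N K q (row (W := W) τ (Last.A z) t)
      (col (W := W) τ (Last.A z') t')).det = if z = z' then 1 else 0 := by
    intro z z'
    simp only [row, herm_col hτ W.V0.zero_mem]
    rw [gram_int, Last.A_dual]
    split_ifs <;> simp
  have e2 : ∀ (z : Fin 8) (x : Fin 3 × Bool), (Matrix.of fun t t' => hermForm N K q (row (W := W) τ (Last.A z) t)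
      (col (W := W) τ (Last.B x) t')).det = if Last.P z x then 1 else 0 := by
    intro z x
    simp only [row, herm_col hτ W.V0.zero_mem]
    rw [gram_int, Last.A_B]
    split_ifs <;> simp
  have e3 : ∀ (x : Fin 3 × Bool) (z : Fin 8), (Matrix.of fun t t' => hermForm N K q (vec W τ (Last.C q w x t) 0)
      (col (W := W) τ (Last.A z) t')).det = if Last.P z x then 1 else 0 := by
    intro x z
    simp only [herm_col hτ W.V0.zero_mem]
    exact Last.C_A hw x z
  have e4 : ∀ x x' : Fin 3 × Bool, (Matrix.of fun t t' => hermForm N K q (vec W τ (Last.C q w x t) 0)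
      (col (W := W) τ (Last.B x') t')).det =
      if x.2 = x'.2 then (if x.1 = x'.1 then (1 + w) * (1 + w) ^ q else 1) else 0 := by
    intro x x'
    simp only [herm_col hτ W.V0.zero_mem]
    rw [Last.C_B hw, add_pow_q hK, one_pow]
  have key := schur (κ := fun (a b : Fin 8 ⊕ (Fin 3 × Bool)) => j (Matrix.of fun t t' => hermForm N K q
      (Sum.elim (fun z => row (W := W) τ (Last.A z)) (fun x t => vec W τ (Last.C q w x t) 0) a t)
      (Sum.elim (fun z => col (W := W) τ (Last.A z)) (fun x => col (W := W) τ (Last.B x)) b t')).det ^ θ i)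
    (f := Sum.inl) (g := Sum.inl) (f' := Sum.inr) (g' := Sum.inr) (n := Fintype.card (Fin 3 × Bool)) (fun z z' => by
      simp only [Sum.elim_inl, e1]
      split_ifs <;> simp [hθi]) (rk_diag (c := fun _ => j ((1 + w) * (1 + w) ^ q) ^ θ i - 2) (fun _ => hθw _ hθi)
        fun x x' => by
        have e5 : ∀ z : Fin 8, j (if Last.P z x then 1 else 0) ^ θ i * j (if Last.P z x' then 1 else 0) ^ θ i =
            (((if Last.P z x then 1 else 0) * (if Last.P z x' then 1 else 0) : ℕ) : k) := by
          intro z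
          split_ifs <;> simp [hθi]
        simp only [Sum.elim_inl, Sum.elim_inr, e2, e3, e4, e5]
        rw [← Nat.cast_sum, Last.P_sum]
        by_cases h2 : x.2 = x'.2
        · by_cases h3 : x.1 = x'.1
          · rw [if_pos h2, if_pos h3, if_pos h2, if_pos h3, if_pos (Prod.ext h3 h2)]
            push_cast
            rfl
          · rw [if_pos h2, if_neg h3, if_pos h2, if_neg h3, if_neg (fun h4 => h3 (congrArg Prod.fst h4))]
            simp
        · rw [if_neg h2, if_neg h2, if_neg (fun h4 => h2 (congrArg Prod.snd h4))]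
          simp [hθi])
  rw [Fintype.card_fin, Fintype.card_prod, Fintype.card_fin, Fintype.card_bool] at key
  refine le_finrank_of (W := W) h rfl hθ hτ hιr (fun a => ?_) (fun b => ?_) key
  · rcases a with z | x
    · exact loc_row hτ hιτ (Last.A_iso z) (B := Last.A z) (by rw [Last.A_dual, if_pos rfl])
    · obtain ⟨z, hz⟩ := Last.exists_P x
      refine loc_vec hτ hιτ (fun _ => W.V0.zero_mem) (fun t t' => ?_) (fun t y => ((Last.A z t (y.1, !y.2) : ℤ) : K)) ?_
      · rw [herm_zero_right hK, add_zero]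
        exact Last.C_iso hK w x t t'
      · have h3 := Last.C_A hw x z
        rw [if_pos hz] at h3
        have h4 : (Matrix.of fun t t' => ∑ y : Fin 3 × Bool, Last.C q w x t y *
            ((Last.A z t' ((y.1, !y.2).1, !(y.1, !y.2).2) : ℤ) : K) ^ q).det = 1 := by
          rw [← h3]
          congr 2
          ext t t'
          exact Finset.sum_congr rfl fun y _ => by rw [int_pow_q hK, Bool.not_not]
        rw [h4]
        exact one_ne_zero
  · rcases b with z | x
    · exact loc_col hτ hιτ (Last.A_iso z) (A := Last.A z) (by rw [Last.A_dual, if_pos rfl])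
    · obtain ⟨z, hz⟩ := Last.exists_P x
      exact loc_col hτ hιτ (Last.B_iso x) (A := Last.A z) (by rw [Last.A_B, if_pos hz])

include W in
/-- **a single node `i = m - 1 ≥ 2`** -/
theorem node_last {i : Fin m} (h : IsKer q (i + 1) j θ vv ff) (h1 : 2 ≤ (i : ℕ)) (hθi : θ i ≠ 0)
    (hθ : ∀ i', i' ≠ i → θ i' = 0) : 13 ≤ Module.finrank k V :=
  le_trans (by norm_num) (node_last' (W := W) h h1 hθi hθ)

end Cfsg.Agent.H991.D3
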