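import Cfsg.Agent.H991.D3.Vec

/-!
# A single node `1 ≤ i ≤ m - 2`: at least 13

Twelve coordinate lines of three hyperbolic pairs and one more isotropic line.
-/

set_option autoImplicit false
set_option maxRecDepth 20000

namespace Cfsg.Agent.H991.D3

open Cfsg Cfsg.Geo Matrix Cfsg.Agent.H876.D3
open LieClassical.HermBasic LieClassical.HermSiegel Cfsg.Agent.TitsThree.KSideU Cfsg.Agent.TitsThree.KSideUDesc
  Cfsg.Agent.TitsThree.WBridge Cfsg.Agent.TitsThree.SiegelGen Cfsg.Agent.TitsThree.Siegel
  Cfsg.Agent.TitsThree.WittFrame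

namespace Mid

/-- the coordinate lines -/
def zt : Fin 12 → Fin 2 → Fin 3 × Bool := ![![(0, true), (1, true)], ![(0, false), (1, false)], ![(0, true), (1, false)],
  ![(0, false), (1, true)], ![(0, true), (2, true)], ![(0, false), (2, false)], ![(0, true), (2, false)],
  ![(0, false), (2, true)], ![(1, true), (2, true)], ![(1, false), (2, false)], ![(1, true), (2, false)],
  ![(1, false), (2, true)]]

def A (z : Fin 12) (t : Fin 2) (y : Fin 3 × Bool) : ℤ := if y = zt z t then 1 else 0

/-- the dual coordinates of the column -/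
def B : Fin 2 → Fin 3 × Bool → ℤ := fun t y =>
  if t = 0 then (if y = (0, true) then 1 else if y = (1, false) then 1 else 0)
  else (if y = (1, true) then 1 else if y = (0, false) then -1 else 0)

theorem A_iso : ∀ z t t', ∑ y : Fin 3 × Bool, A z t y * A z t' (y.1, !y.2) = 0 := by decide +kernel

theorem B_iso : ∀ t t', ∑ y : Fin 3 × Bool, B t y * B t' (y.1, !y.2) = 0 := by decide +kernel

theorem A_dual : ∀ z z', (Matrix.of fun t t' => ∑ y, A z t y * A z' t' y).det = if z = z' then 1 else 0 := by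
  simp only [Matrix.det_fin_two, Matrix.of_apply]
  decide +kernel

theorem A_B : ∀ z, (Matrix.of fun t t' => ∑ y, A z t y * B t' y).det = if (z : ℕ) < 2 then 1 else 0 := by
  simp only [Matrix.det_fin_two, Matrix.of_apply]
  decide +kernel

variable {K : Type} [Field K] {q : ℕ}

/-- the coordinates of the row -/
def C (q : ℕ) (w : K) : Fin 2 → Fin 3 × Bool → K := fun t y =>
  if t = 0 then (if y = (0, true) then 1 else if y = (1, false) then w else 0)
  else (if y = (1, true) then 1 else if y = (0, false) then -w ^ q else 0)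

theorem C_A {w : K} (hw : w * w ^ q = 1) (z : Fin 12) : (Matrix.of fun t t' => ∑ y, C q w t y * (A z t' y : K)).det =
    if (z : ℕ) < 2 then 1 else 0 := by
  have h1 : ∀ t t', ∑ y, C q w t y * (A z t' y : K) = C q w t (zt z t') := by
    intro t t'
    rw [Finset.sum_eq_single (zt z t')]
    · simp [A]
    · intro y _ hy; simp [A, hy]
    · intro h; exact absurd (Finset.mem_univ _) h
  simp only [Matrix.det_fin_two, Matrix.of_apply, h1]
  fin_cases z <;> simp [zt, C, hw]

theorem C_B {w : K} : (Matrix.of fun t t' => ∑ y, C q w t y * (B t' y : K)).det = (1 + w) * (1 + w ^ q) := by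
  simp only [Matrix.det_fin_two, Matrix.of_apply, Fintype.sum_prod_type, Fin.sum_univ_three, Fintype.sum_bool, C, B]
  simp
  left
  ring

theorem C_iso [Fintype K] (hK : Fintype.card K = q ^ 2) (w : K) (t t' : Fin 2) :
    ∑ y : Fin 3 × Bool, C q w t y * C q w t' (y.1, !y.2) ^ q = 0 := by
  have h0 : (0 : K) ^ q = 0 := zero_pow_q hK
  simp only [Fintype.sum_prod_type, Fin.sum_univ_three, Fintype.sum_bool, C]
  fin_cases t <;> fin_cases t' <;> simp [h0, neg_pow_q hK, pow_q_pow_q hK]

end Mid

variable {K : Type} [Field K] [Fintype K] {N q m : ℕ} {hK : Fintype.card K = q ^ 2} {W : WFrame (PU hK N) m}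
  {k : Type*} [Field k] {V : Type*} [AddCommGroup V] [Module k V] [FiniteDimensional k V]
  {r : ℕ} {j : K →+* k} {θ : Fin m → ℕ} {vv : (Fin m → Fin N → K) → V}
  {ff : (Fin m → Fin N → K) → Module.Dual k V}

include W in
theorem node_mid {i : Fin m} (h : IsKer q (i + 1) j θ vv ff) (h1 : 1 ≤ (i : ℕ)) (h2 : (i : ℕ) + 1 < m) (hθi : θ i ≠ 0)
    (hθ : ∀ i', i' ≠ i → θ i' = 0) : 13 ≤ Module.finrank k V := by
  obtain ⟨w, hw, hθw⟩ := exists_param hK j
  let τ : Fin 3 → Fin m := ![⟨i - 1, by omega⟩, i, ⟨i + 1, h2⟩]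
  let ι : Fin 2 → Fin m := ![⟨i - 1, by omega⟩, i]
  have hτ : Function.Injective τ := by
    intro a b hab
    fin_cases a <;> fin_cases b <;> simp [τ, Fin.ext_iff] at hab ⊢ <;> omega
  have hι : Function.Injective ι := by
    intro a b hab
    fin_cases a <;> fin_cases b <;> simp [ι, Fin.ext_iff] at hab ⊢ <;> omega
  have hιr : ∀ t, (ι t : ℕ) < (i : ℕ) + 1 := by
    intro t
    fin_cases t <;> simp [ι]
  have hιτ : ∀ a : Fin m, (a : ℕ) < (i : ℕ) + 1 → a ∉ Set.range ι → a ∉ Set.range τ := by
    rintro a ha ha1 ⟨t, rfl⟩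
    fin_cases t
    · exact ha1 ⟨0, rfl⟩
    · exact ha1 ⟨1, rfl⟩
    · simp [τ] at ha
  have e1 : ∀ z z' : Fin 12, (Matrix.of fun t t' => hermForm N K q (row (W := W) τ (Mid.A z) t)
      (col (W := W) τ (Mid.A z') t')).det = if z = z' then 1 else 0 := by
    intro z z'
    simp only [row, herm_col hτ W.V0.zero_mem]
    rw [gram_int, Mid.A_dual]
    split_ifs <;> simp
  have e2 : ∀ z : Fin 12, (Matrix.of fun t t' => hermForm N K q (row (W := W) τ (Mid.A z) t)
      (col (W := W) τ Mid.B t')).det = if (z : ℕ) < 2 then 1 else 0 := by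
    intro z
    simp only [row, herm_col hτ W.V0.zero_mem]
    rw [gram_int, Mid.A_B]
    split_ifs <;> simp
  have e3 : ∀ z : Fin 12, (Matrix.of fun t t' => hermForm N K q (vec W τ (Mid.C q w t) 0)
      (col (W := W) τ (Mid.A z) t')).det = if (z : ℕ) < 2 then 1 else 0 := by
    intro z
    simp only [herm_col hτ W.V0.zero_mem]
    exact Mid.C_A hw z
  have e4 : (Matrix.of fun t t' => hermForm N K q (vec W τ (Mid.C q w t) 0)
      (col (W := W) τ Mid.B t')).det = (1 + w) * (1 + w) ^ q := by
    simp only [herm_col hτ W.V0.zero_mem]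
    rw [Mid.C_B, add_pow_q hK, one_pow]
  have key := schur (κ := fun (a b : Fin 12 ⊕ Unit) => j (Matrix.of fun t t' => hermForm N K q
      (Sum.elim (fun z => row (W := W) τ (Mid.A z)) (fun _ t => vec W τ (Mid.C q w t) 0) a t)
      (Sum.elim (fun z => col (W := W) τ (Mid.A z)) (fun _ => col (W := W) τ Mid.B) b t')).det ^ θ i)
    (f := Sum.inl) (g := Sum.inl) (f' := Sum.inr) (g' := Sum.inr) (n := 1) (fun z z' => by
      simp only [Sum.elim_inl, e1]
      split_ifs <;> simp [hθi]) (Rk.one_of ⟨(), (), by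
        have e5 : ∀ z : Fin 12, j (if (z : ℕ) < 2 then 1 else 0) ^ θ i * j (if (z : ℕ) < 2 then 1 else 0) ^ θ i =
            if (z : ℕ) < 2 then 1 else 0 := by
          intro z
          split_ifs <;> simp [hθi]
        simp only [Sum.elim_inl, Sum.elim_inr, e2, e3, e4, e5]
        have e6 : (∑ z : Fin 12, if (z : ℕ) < 2 then (1 : k) else 0) = 2 := by
          have e7 : (∑ z : Fin 12, if (z : ℕ) < 2 then 1 else 0 : ℕ) = 2 := by decide
          have e8 := congrArg (Nat.cast : ℕ → k) e7
          push_cast at e8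
          exact e8
        rw [e6]
        exact hθw _ hθi⟩)
  rw [Fintype.card_fin] at key
  refine le_finrank_of (W := W) h rfl hθ hι hιr (fun a => ?_) (fun b => ?_) key
  · rcases a with z | _
    · exact loc_row hτ hιτ (Mid.A_iso z) (B := Mid.A z) (by rw [Mid.A_dual, if_pos rfl])
    · refine loc_vec hτ hιτ (fun _ => W.V0.zero_mem) (fun t t' => ?_) (fun t y => ((Mid.A 0 t (y.1, !y.2) : ℤ) : K)) ?_
      · rw [herm_zero_right hK, add_zero]
        exact Mid.C_iso hK w t t'
      · have h3 := Mid.C_A hw 0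
        rw [if_pos (by norm_num)] at h3
        have h4 : (Matrix.of fun t t' => ∑ y : Fin 3 × Bool, Mid.C q w t y *
            ((Mid.A 0 t' ((y.1, !y.2).1, !(y.1, !y.2).2) : ℤ) : K) ^ q).det = 1 := by
          rw [← h3]
          congr 2
          ext t t'
          exact Finset.sum_congr rfl fun y _ => by rw [int_pow_q hK, Bool.not_not]
        rw [h4]
        exact one_ne_zero
  · rcases b with z | _
    · exact loc_col hτ hιτ (Mid.A_iso z) (A := Mid.A z) (by rw [Mid.A_dual, if_pos rfl])
    · exact loc_col hτ hιτ Mid.B_iso (A := Mid.A 0) (by rw [Mid.A_B, if_pos (by norm_num)])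

end Cfsg.Agent.H991.D3
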