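import Cfsg.Agent.H991.D3.Vec
import Cfsg.Agent.H876.D3.PairBound

/-!
# Pairs with an anisotropic vector: coordinates

* `rk_tri` : block triangular families; `IsKer.congr`;
* `v5` : the vector with coordinates in `e0, f0, e1, f1, d`; `Bf` : the form; `G2`.
-/

set_option autoImplicit false

namespace Cfsg.Agent.H991.D3

open Cfsg Cfsg.Geo Matrix Cfsg.Agent.H876.D3
open LieClassical.HermBasic LieClassical.HermSiegel Cfsg.Agent.TitsThree.KSideU Cfsg.Agent.TitsThree.KSideUDesc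
  Cfsg.Agent.TitsThree.WBridge Cfsg.Agent.TitsThree.SiegelGen Cfsg.Agent.TitsThree.Siegel
  Cfsg.Agent.TitsThree.WittFrame

section

variable {k : Type*} [Field k] {X Y : Type*} [Fintype X] [Fintype Y]

/-- three blocks -/
theorem rk_tri {κ : X → Y → k} {α β γ : Type*} [Fintype α] [DecidableEq α] [Fintype β] [DecidableEq β] [Fintype γ]
    [DecidableEq γ] {P₁ : α → X → k} {Q₁ : α → Y → k} {P₂ : β → X → k} {Q₂ : β → Y → k} {P₃ : γ → X → k}
    {Q₃ : γ → Y → k} (h₁ : ∀ i j, bl κ (P₁ i) (Q₁ j) = if i = j then 1 else 0)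
    (h₂ : ∀ i j, bl κ (P₂ i) (Q₂ j) = if i = j then 1 else 0)
    (h₃ : ∀ i j, bl κ (P₃ i) (Q₃ j) = if i = j then 1 else 0) (h₁₂ : ∀ i j, bl κ (P₁ i) (Q₂ j) = 0)
    (h₁₃ : ∀ i j, bl κ (P₁ i) (Q₃ j) = 0) (h₂₃ : ∀ i j, bl κ (P₂ i) (Q₃ j) = 0) :
    Rk κ (Fintype.card α + (Fintype.card β + Fintype.card γ)) := by
  have h1 := Rk.of_isUnit (κ := κ) (Sum.elim P₁ (Sum.elim P₂ P₃)) (Sum.elim Q₁ (Sum.elim Q₂ Q₃)) (by
    have h2 : (Matrix.of fun i j => bl κ (Sum.elim P₁ (Sum.elim P₂ P₃) i) (Sum.elim Q₁ (Sum.elim Q₂ Q₃) j)) =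
        Matrix.fromBlocks 1 0 (Matrix.of fun i j => bl κ (Sum.elim P₂ P₃ i) (Q₁ j))
          (Matrix.fromBlocks 1 0 (Matrix.of fun i j => bl κ (P₃ i) (Q₂ j)) 1) := by
      ext i j
      rcases i with i | i | i <;> rcases j with j | j | j <;>
        simp [h₁, h₂, h₃, h₁₂, h₁₃, h₂₃, Matrix.one_apply]
    rw [h2, Matrix.det_fromBlocks_zero₁₂, Matrix.det_fromBlocks_zero₁₂, Matrix.det_one, Matrix.det_one, Matrix.det_one,
      one_mul, one_mul]
    exact isUnit_one)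
  rwa [Fintype.card_sum, Fintype.card_sum] at h1

end

variable {K : Type} [Field K] [Fintype K] {N q m : ℕ} {hK : Fintype.card K = q ^ 2}

section Ker

variable {k : Type*} [Field k] {V : Type*} [AddCommGroup V] [Module k V] {r : ℕ}
  {j : K →+* k} {θ : Fin m → ℕ} {vv : (Fin m → Fin N → K) → V} {ff : (Fin m → Fin N → K) → Module.Dual k V}

theorem IsKer_congr (h : IsKer q r j θ vv ff) {θ' : Fin m → ℕ} (hθ : ∀ (i : Fin m) (x : K), x ^ θ i = x ^ θ' i) :
    IsKer q r j θ' vv ff where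
  ker u u' hu hu' := by
    rw [h.ker u u' hu hu']
    refine Finset.prod_congr rfl fun i _ => ?_
    rw [← map_pow, ← map_pow, hθ]
  span := h.span
  sep := h.sep

end Ker

/-! ### coordinates -/

/-- the form in coordinates -/
def Bf (q : ℕ) (η : K) (v w : Fin 5 → K) : K :=
  v 0 * w 1 ^ q + v 1 * w 0 ^ q + v 2 * w 3 ^ q + v 3 * w 2 ^ q + η * (v 4 * w 4 ^ q)

/-- the minor -/
def G2 (q : ℕ) (η : K) (x y : (Fin 5 → K) × (Fin 5 → K)) : K :=
  Bf q η x.1 y.1 * Bf q η x.2 y.2 - Bf q η x.1 y.2 * Bf q η x.2 y.1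

section

variable (W : WFrame (PU hK N) m) (hm : 2 ≤ m) (d : Fin N → K)

/-- the vector with the coordinates `v` -/
noncomputable def v5 (v : Fin 5 → K) : Fin N → K :=
  v 0 • (toFrame W).b (⟨0, by omega⟩, true) + v 1 • (toFrame W).b (⟨0, by omega⟩, false) +
    (v 2 • (toFrame W).b (⟨1, by omega⟩, true) + v 3 • (toFrame W).b (⟨1, by omega⟩, false)) + v 4 • d

variable {W d}

theorem herm_v5 (hd : d ∈ W.V0) (v w : Fin 5 → K) :
    hermForm N K q (v5 W hm d v) (v5 W hm d w) = Bf q (hermForm N K q d d) v w := by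
  unfold v5 Bf
  simp only [herm_add_left, herm_add_right hK, herm_smul_left, herm_smul_right, hb_all, hb_V0 _ hd, V0_hb _ hd]
  simp
  ring

/-- an isotropic pair -/
structure Iso (q : ℕ) (η : K) (x : (Fin 5 → K) × (Fin 5 → K)) : Prop where
  vv : Bf q η x.1 x.1 = 0
  vw : Bf q η x.1 x.2 = 0
  wv : Bf q η x.2 x.1 = 0
  ww : Bf q η x.2 x.2 = 0
  ne : ∃ y, G2 q η x y ≠ 0

theorem Iso.pfr (hd : d ∈ W.V0) {x : (Fin 5 → K) × (Fin 5 → K)} (h : Iso q (hermForm N K q d d) x) :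
    PFr (m := m) q 2 (pr2 (v5 W hm d x.1) (v5 W hm d x.2)) := by
  refine pfr_two hm (by rw [herm_v5 hm hd, h.vv]) (by rw [herm_v5 hm hd, h.vw]) (by rw [herm_v5 hm hd, h.wv])
    (by rw [herm_v5 hm hd, h.ww]) fun a b hab => ?_
  obtain ⟨y, hy⟩ := h.ne
  have h1 : a * Bf q (hermForm N K q d d) x.1 y.1 + b * Bf q (hermForm N K q d d) x.2 y.1 = 0 := by
    rw [← herm_v5 hm hd, ← herm_v5 hm hd, ← herm_smul_left, ← herm_smul_left, ← herm_add_left, hab, herm_zero_left]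
  have h2 : a * Bf q (hermForm N K q d d) x.1 y.2 + b * Bf q (hermForm N K q d d) x.2 y.2 = 0 := by
    rw [← herm_v5 hm hd, ← herm_v5 hm hd, ← herm_smul_left, ← herm_smul_left, ← herm_add_left, hab, herm_zero_left]
  constructor
  · have h3 : a * G2 q (hermForm N K q d d) x y = 0 := by
      unfold G2
      linear_combination Bf q (hermForm N K q d d) x.2 y.2 * h1 - Bf q (hermForm N K q d d) x.2 y.1 * h2
    exact (mul_eq_zero.1 h3).resolve_right hy
  · have h3 : b * G2 q (hermForm N K q d d) x y = 0 := by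
      unfold G2
      linear_combination Bf q (hermForm N K q d d) x.1 y.1 * h2 - Bf q (hermForm N K q d d) x.1 y.2 * h1
    exact (mul_eq_zero.1 h3).resolve_right hy

theorem Gr_v5 (hd : d ∈ W.V0) (x y : (Fin 5 → K) × (Fin 5 → K)) :
    Gr q ⟨1, by omega⟩ (pr2 (m := m) (v5 W hm d x.1) (v5 W hm d x.2)) (pr2 (v5 W hm d y.1) (v5 W hm d y.2)) =
      G2 q (hermForm N K q d d) x y := by
  have e1 : ∀ x y : Fin N → K, pr2 (m := m) x y ⟨0, by omega⟩ = x := fun x y => rfl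
  have e2 : ∀ x y : Fin N → K, pr2 (m := m) x y ⟨1, by omega⟩ = y := fun x y => rfl
  rw [Gr_one hm, e1, e1, e2, e2, herm_v5 hm hd, herm_v5 hm hd, herm_v5 hm hd, herm_v5 hm hd]
  rfl

end

section Ker

variable {k : Type*} [Field k] {V : Type*} [AddCommGroup V] [Module k V] [FiniteDimensional k V]
  {j : K →+* k} {θ : Fin m → ℕ} {vv : (Fin m → Fin N → K) → V}
  {ff : (Fin m → Fin N → K) → Module.Dual k V}

theorem le_finrank_v5 {W : WFrame (PU hK N) m} (hm : 2 ≤ m) {d : Fin N → K} (hd : d ∈ W.V0)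
    (h : IsKer q 2 j θ vv ff) (hθ : ∀ i : Fin m, (i : ℕ) ≠ 1 → θ i = 0) {X Y : Type*} [Fintype X] [Fintype Y]
    {f : X → (Fin 5 → K) × (Fin 5 → K)} {g : Y → (Fin 5 → K) × (Fin 5 → K)}
    (hf : ∀ x, Iso q (hermForm N K q d d) (f x)) (hg : ∀ y, Iso q (hermForm N K q d d) (g y)) {n : ℕ}
    (hn : Rk (fun x y => j (G2 q (hermForm N K q d d) (f x) (g y)) ^ θ ⟨1, by omega⟩) n) :
    n ≤ Module.finrank k V := by
  refine h.le_finrank (f := fun x => pr2 (v5 W hm d (f x).1) (v5 W hm d (f x).2))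
    (g := fun x => pr2 (v5 W hm d (g x).1) (v5 W hm d (g x).2))
    (fun x => (hf x).pfr hm hd) (fun x => (hg x).pfr hm hd) (fun x y => ?_) hn
  rw [prod_two hm hθ, Gr_v5 hm hd]

end Ker

end Cfsg.Agent.H991.D3
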