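import Cfsg.Agent.H991.D3.FiveRows

/-!
# The rank of the kernel on the three families
-/

set_option autoImplicit false

namespace Cfsg.Agent.H991.D3

open Cfsg Cfsg.Geo Matrix Cfsg.Agent.H876.D3
open LieClassical.HermBasic

variable {K : Type} [Field K] [Fintype K] {q : ℕ} {k : Type*} [Field k]

section

variable {X Y : Type*} [Fintype X] [Fintype Y]

theorem bl_eq_zero {κ : X → Y → k} {P : X → k} {Q : Y → k} (h : ∀ x, P x ≠ 0 → ∑ y, κ x y * Q y = 0) : bl κ P Q = 0 := by
  unfold bl
  refine Finset.sum_eq_zero fun x _ => ?_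
  by_cases hx : P x = 0
  · simp [hx]
  · have h1 := h x hx
    simp only [mul_assoc]
    rw [← Finset.mul_sum, h1, mul_zero]

end

theorem jb_pow_q (hK : Fintype.card K = q ^ 2) {j : K →+* k} (z : K) : j (z ^ (q + 1)) = jb hK j z ^ (q + 1) := by
  rw [jb_apply, ← map_pow, ← pow_mul, mul_comm, pow_mul]
  congr 1
  rw [pow_succ, mul_pow, pow_q_pow_q hK, mul_comm]

/-- **The rank of the kernel.** -/
theorem rk_five (hK : Fintype.card K = q ^ 2) {j : K →+* k} {η μ : K} (hη : η ≠ 0) (hμ : μ ^ q + μ + η = 0) {θ a : ℕ} (hθ0 : θ ≠ 0)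
    (hE : ∀ g : K, g ^ q = g → g ^ θ = g) {ε : K} (hε : ε ≠ 0) (ha : a + 1 ≤ q)
    (hx : ∀ x : K, x ^ (q + 1) = 1 → (x - 1) ^ θ = ε * (x ^ a - x ^ (a + 1))) [Fintype {ζ : K // ζ * ζ ^ q = 1}] :
    Rk (fun x y : Ix q K => j (G2 q η (fR q μ x) (fC q μ y)) ^ θ) (6 + 4 * (({a, a + 1} : Finset ℕ).erase 0).card) := by
  classical
  have hq2 : 2 ≤ q := two_le hK
  set S : Finset ℕ := ({a, a + 1} : Finset ℕ).erase 0 with hS
  set κ : Ix q K → Ix q K → k := fun x y => j (G2 q η (fR q μ x) (fC q μ y)) ^ θ with hκ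
  have hcardZ : Fintype.card {ζ : K // ζ * ζ ^ q = 1} = q + 1 := by
    rw [← Nat.card_eq_fintype_card, card_norm_eq_one hK]
  obtain ⟨A, hA⟩ := exists_dual_pow j j.injective
  obtain ⟨B, hB⟩ := exists_dual_pow (jb hK j) (jb hK j).injective
  obtain ⟨A', hA'⟩ := exists_dual_pow (fun ζ : {ζ : K // ζ * ζ ^ q = 1} => j ζ) (fun ζ ζ' h => Subtype.ext (j.injective h))
  obtain ⟨B', hB'⟩ := exists_dual_pow (fun ζ : {ζ : K // ζ * ζ ^ q = 1} => jb hK j ζ)
    (fun ζ ζ' h => Subtype.ext ((jb hK j).injective h))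
  rw [hcardZ] at hA' hB'
  rw [hK] at hA hB
  have hqq : q + 1 < q ^ 2 := by nlinarith
  have hSlt : ∀ c ∈ S, c < q + 1 ∧ c ≠ 0 := by
    intro c hc
    rw [hS, Finset.mem_erase, Finset.mem_insert, Finset.mem_singleton] at hc
    omega
  -- columns with `ζ`
  have hcol : ∀ (x : Ix q K) (b : Fin 4) (c : ℕ), c ∈ S →
      (∀ ζ ζ', κ x (.inr (.inr (b, ζ))) = κ x (.inr (.inr (b, ζ')))) →
      ∑ y : Ix q K, κ x y * (Sum.elim (0 : Fin 4 → k) (Sum.elim (0 : K → k)
        (fun z : Fin 4 × {ζ : K // ζ * ζ ^ q = 1} => if z.1 = b then B' c z.2 else 0)) y) = 0 := by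
    intro x b c hc h
    have h1 : ∑ ζ, B' c ζ = 0 := by
      have h2 := hB' c (hSlt c hc).1 0 (by omega)
      simp only [pow_zero, mul_one] at h2
      rw [h2, if_neg (hSlt c hc).2]
    simp only [Fintype.sum_sum_type, Sum.elim_inl, Sum.elim_inr, Pi.zero_apply, mul_zero, Finset.sum_const_zero,
      zero_add, Fintype.sum_prod_type]
    rw [Finset.sum_eq_single b]
    · simp only [if_true]
      rw [Finset.sum_congr rfl fun ζ _ => by rw [h ζ ⟨1, by simp⟩], ← Finset.mul_sum, h1, mul_zero]
    · intro b' _ hb'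
      exact Finset.sum_eq_zero fun ζ _ => by rw [if_neg hb', mul_zero]
    · intro h2; exact absurd (Finset.mem_univ _) h2
  -- the constant
  have hK0 : j η ^ θ * j ε ≠ 0 := mul_ne_zero (pow_ne_zero _ ((map_ne_zero j).2 hη)) ((map_ne_zero j).2 hε)
  set K0 : k := j η ^ θ * j ε with hK0'
  let cf : ℕ → k := fun c => if c = a then K0 else -K0
  have hcf : ∀ c, cf c ≠ 0 := by
    intro c
    simp only [cf]
    split_ifs
    · exact hK0
    · exact neg_ne_zero.2 hK0
  let e : Bool → ℕ := fun b => if b then 1 else q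
  have key := rk_tri (κ := κ) (α := Fin 4) (β := Bool) (γ := Fin 4 × S)
    (P₁ := fun z => Pi.single (.inl z) 1) (Q₁ := fun z => Pi.single (.inl z) 1)
    (P₂ := fun b => Sum.elim 0 (Sum.elim (A (e b)) 0)) (Q₂ := fun b => Sum.elim 0 (Sum.elim (B (e b)) 0))
    (P₃ := fun c => Sum.elim 0 (Sum.elim 0 (fun z => if z.1 = c.1 then (cf c.2)⁻¹ * A' c.2 z.2 else 0)))
    (Q₃ := fun c => Sum.elim 0 (Sum.elim 0 (fun z => if z.1 = c.1 then B' c.2 z.2 else 0)))
    (fun z z' => by
      rw [bl_single, one_mul, mul_one, hκ]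
      simp only [G_cc hK]
      split_ifs <;> simp [hθ0])
    (fun b b' => by
      have h1 : bl κ (Sum.elim 0 (Sum.elim (A (e b)) 0)) (Sum.elim 0 (Sum.elim (B (e b')) 0)) =
          bl (fun z z' : K => κ (.inr (.inl z)) (.inr (.inl z'))) (A (e b)) (B (e b')) := by
        simp [bl, Fintype.sum_sum_type]
      rw [h1]
      have h2 : ∀ z z' : K, κ (.inr (.inl z)) (.inr (.inl z')) = j z ^ 0 * jb hK j z' ^ 0 + j z ^ 1 * jb hK j z' ^ 1 +
          j z ^ q * jb hK j z' ^ q + j z ^ (q + 1) * jb hK j z' ^ (q + 1) := by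
        intro z z'
        have hg : ((1 + z * z' ^ q) * (1 + z ^ q * z')) ^ q = (1 + z * z' ^ q) * (1 + z ^ q * z') := by
          rw [mul_pow, add_pow_q hK, add_pow_q hK, mul_pow, mul_pow, one_pow, pow_q_pow_q hK, pow_q_pow_q hK]
          ring
        rw [hκ]
        simp only [G_ll hK]
        rw [← map_pow, hE _ hg]
        have e1 : jb hK j z' ^ q = j z' := by
          rw [jb_apply, ← map_pow, pow_q_pow_q hK]
        have e2 : jb hK j z' ^ (q + 1) = j z' * j z' ^ q := by
          rw [pow_succ, e1, jb_apply, map_pow]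
        rw [e1, e2, pow_one, pow_one, pow_zero, pow_zero, jb_apply]
        simp only [map_mul, map_add, map_one, map_pow]
        ring
      simp only [h2]
      have h3 : ∀ l, bl (fun z z' : K => j z ^ l * jb hK j z' ^ l) (A (e b)) (B (e b')) =
          (∑ z, A (e b) z * j z ^ l) * ∑ z', B (e b') z' * jb hK j z' ^ l := by
        intro l
        unfold bl
        rw [Finset.sum_mul_sum]
        exact Finset.sum_congr rfl fun x _ => Finset.sum_congr rfl fun y _ => by ring
      have h4 : bl (fun z z' : K => j z ^ 0 * jb hK j z' ^ 0 + j z ^ 1 * jb hK j z' ^ 1 +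
          j z ^ q * jb hK j z' ^ q + j z ^ (q + 1) * jb hK j z' ^ (q + 1)) (A (e b)) (B (e b')) =
          bl (fun z z' : K => j z ^ 0 * jb hK j z' ^ 0) (A (e b)) (B (e b')) +
          bl (fun z z' : K => j z ^ 1 * jb hK j z' ^ 1) (A (e b)) (B (e b')) +
          bl (fun z z' : K => j z ^ q * jb hK j z' ^ q) (A (e b)) (B (e b')) +
          bl (fun z z' : K => j z ^ (q + 1) * jb hK j z' ^ (q + 1)) (A (e b)) (B (e b')) := by
        unfold bl
        simp only [← Finset.sum_add_distrib]
        exact Finset.sum_congr rfl fun x _ => Finset.sum_congr rfl fun y _ => by ring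
      have heb : ∀ b, e b < q ^ 2 := by
        intro b
        cases b <;> simp only [e] <;> simp <;> omega
      rw [h4, h3, h3, h3, h3, hA _ (heb b) 0 (by omega), hA _ (heb b) 1 (by omega), hA _ (heb b) q (by omega),
        hA _ (heb b) (q + 1) hqq, hB _ (heb b') 0 (by omega), hB _ (heb b') 1 (by omega), hB _ (heb b') q (by omega),
        hB _ (heb b') (q + 1) hqq]
      have hq1 : q ≠ 1 := by omega
      have hq0 : q ≠ 0 := by omega
      cases b <;> cases b' <;> simp [e, hq1, hq0, Ne.symm hq1])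
    (fun c c' => by
      by_cases hcc : c.1 = c'.1
      · have h1 : bl κ (Sum.elim 0 (Sum.elim 0 (fun z => if z.1 = c.1 then (cf c.2)⁻¹ * A' c.2 z.2 else 0)))
            (Sum.elim 0 (Sum.elim 0 (fun z => if z.1 = c'.1 then B' c'.2 z.2 else 0))) =
            bl (fun ζ ζ' => κ (.inr (.inr (c.1, ζ))) (.inr (.inr (c.1, ζ')))) (fun ζ => (cf c.2)⁻¹ * A' c.2 ζ)
              (B' c'.2) := by
          rw [← hcc]
          simp only [bl, Fintype.sum_sum_type, Sum.elim_inl, Sum.elim_inr, Pi.zero_apply, zero_mul, mul_zero,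
            Finset.sum_const_zero, zero_add, Fintype.sum_prod_type]
          rw [Finset.sum_eq_single c.1]
          · refine Finset.sum_congr rfl fun ζ _ => ?_
            rw [Finset.sum_eq_single c.1]
            · simp
            · intro b _ hb
              exact Finset.sum_eq_zero fun ζ' _ => by rw [if_neg hb, mul_zero]
            · intro h2; exact absurd (Finset.mem_univ _) h2
          · intro b _ hb
            refine Finset.sum_eq_zero fun ζ _ => ?_
            simp [hb]
          · intro h2; exact absurd (Finset.mem_univ _) h2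
        rw [h1]
        have h2 : ∀ ζ ζ' : {ζ : K // ζ * ζ ^ q = 1}, κ (.inr (.inr (c.1, ζ))) (.inr (.inr (c.1, ζ'))) =
            K0 * (j ζ ^ a * jb hK j ζ' ^ a) - K0 * (j ζ ^ (a + 1) * jb hK j ζ' ^ (a + 1)) := by
          intro ζ ζ'
          rw [hκ]
          have hxx : ((ζ : K) * (ζ' : K) ^ q) ^ (q + 1) = 1 := by
            have e1 := ζ.2
            have e2 := ζ'.2
            rw [mul_pow, ← pow_mul, pow_succ, mul_comm ((ζ : K) ^ q), e1, one_mul, Nat.mul_succ, pow_add, pow_mul,
              pow_q_pow_q hK, e2]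
          have hj : j ((ζ : K) * (ζ' : K) ^ q) = j ζ * jb hK j ζ' := by rw [map_mul, jb_apply]
          simp only [G_dd hK hμ]
          rw [map_mul, mul_pow, ← map_pow j (_ - 1), hx _ hxx, map_mul, map_sub, map_pow, map_pow, hj, hK0', mul_pow,
            mul_pow]
          ring
        have h3 : bl (fun ζ ζ' => κ (.inr (.inr (c.1, ζ))) (.inr (.inr (c.1, ζ')))) (fun ζ => (cf c.2)⁻¹ * A' c.2 ζ)
              (B' c'.2) = (cf c.2)⁻¹ * (K0 * ((∑ ζ, A' c.2 ζ * j ζ ^ a) * ∑ ζ', B' c'.2 ζ' * jb hK j ζ' ^ a) -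
                K0 * ((∑ ζ, A' c.2 ζ * j ζ ^ (a + 1)) * ∑ ζ', B' c'.2 ζ' * jb hK j ζ' ^ (a + 1))) := by
          simp only [h2]
          unfold bl
          rw [Finset.sum_mul_sum, Finset.sum_mul_sum]
          simp only [Finset.mul_sum, ← Finset.sum_sub_distrib]
          exact Finset.sum_congr rfl fun x _ => Finset.sum_congr rfl fun y _ => by ring
        rw [h3, hA' _ (hSlt _ c.2.2).1 a (by omega), hA' _ (hSlt _ c.2.2).1 (a + 1) (by omega),
          hB' _ (hSlt _ c'.2.2).1 a (by omega), hB' _ (hSlt _ c'.2.2).1 (a + 1) (by omega)]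
        have hm : ∀ c : S, (c : ℕ) = a ∨ (c : ℕ) = a + 1 := by
          rintro ⟨c, h5⟩
          rw [hS, Finset.mem_erase, Finset.mem_insert, Finset.mem_singleton] at h5
          exact h5.2
        have hne : (a : ℕ) ≠ a + 1 := by omega
        by_cases h4 : c = c'
        · subst h4
          rw [if_pos rfl]
          rcases hm c.2 with h5 | h5
          · simp only [h5, cf, if_true, hne, if_false, mul_one, mul_zero, sub_zero]
            exact inv_mul_cancel₀ hK0
          · simp only [h5, cf, if_true, hne.symm, if_false, mul_one, mul_zero, zero_sub]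
            exact inv_mul_cancel₀ (neg_ne_zero.2 hK0)
        · rw [if_neg h4]
          have h6 : (c.2 : ℕ) ≠ c'.2 := fun h => h4 (Prod.ext hcc (Subtype.ext h))
          rcases hm c.2 with h5 | h5 <;> rcases hm c'.2 with h7 | h7
          · exact absurd (h5.trans h7.symm) h6
          · simp only [h5, h7, if_true, hne, hne.symm, if_false, mul_zero, zero_mul, sub_zero]
          · simp only [h5, h7, if_true, hne, hne.symm, if_false, mul_zero, zero_mul, sub_zero]
          · exact absurd (h5.trans h7.symm) h6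
      · rw [if_neg (fun h => hcc (congrArg Prod.fst h))]
        refine bl_eq_zero fun x hx => hcol x c'.1 c'.2 c'.2.2 fun ζ ζ' => ?_
        rcases x with z | z | ⟨b, ζ₀⟩
        · exact absurd rfl hx
        · exact absurd rfl hx
        · have hb : b = c.1 := by
            by_contra hb
            simp [hb] at hx
          subst hb
          rw [hκ]
          simp only
          rw [G_dd_ne hK hcc])
    (fun z b => by
      have h1 : bl κ (Pi.single (.inl z) 1) (Sum.elim 0 (Sum.elim (B (e b)) 0)) =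
          ∑ z' : K, B (e b) z' * κ (.inl z) (.inr (.inl z')) := by
        unfold bl
        rw [Finset.sum_eq_single (.inl z)]
        · simp [Fintype.sum_sum_type, mul_comm]
        · intro x _ hx
          rw [Pi.single_eq_of_ne hx]
          simp
        · intro h2; exact absurd (Finset.mem_univ _) h2
      rw [h1]
      have heb : e b < q ^ 2 ∧ e b ≠ 0 ∧ e b ≠ q + 1 := by
        cases b <;> simp only [e] <;> simp <;> omega
      by_cases hz0 : z = 0
      · have h2 : ∀ z' : K, κ (.inl z) (.inr (.inl z')) = jb hK j z' ^ 0 := by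
          intro z'
          rw [hκ]
          simp only [G_cl hK, hz0, if_true]
          simp
        simp only [h2]
        rw [hB _ heb.1 0 (by omega), if_neg heb.2.1]
      · by_cases hz1 : z = 1
        · have h2 : ∀ z' : K, κ (.inl z) (.inr (.inl z')) = jb hK j z' ^ (q + 1) := by
            intro z'
            have hg : (z' ^ (q + 1)) ^ q = z' ^ (q + 1) := by
              rw [pow_succ, mul_pow, pow_q_pow_q hK, mul_comm]
            rw [hκ]
            simp only [G_cl hK, hz0, hz1, if_true, if_false]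
            simp only [one_ne_zero, if_false]
            rw [← map_pow, hE _ hg, jb_pow_q hK]
          simp only [h2]
          rw [hB _ heb.1 (q + 1) hqq, if_neg heb.2.2]
        · have h2 : ∀ z' : K, κ (.inl z) (.inr (.inl z')) = 0 := by
            intro z'
            rw [hκ]
            simp only [G_cl hK, hz0, hz1, if_false]
            rw [map_zero, zero_pow hθ0]
          simp only [h2, mul_zero, Finset.sum_const_zero])
    (fun z c => bl_eq_zero fun x hx => hcol x c.1 c.2 c.2.2 fun ζ ζ' => by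
      have hxz : x = .inl z := by
        by_contra h
        exact hx (Pi.single_eq_of_ne h _)
      subst hxz
      rw [hκ]
      simp only
      rw [G_cd hK])
    (fun b c => bl_eq_zero fun x hx => hcol x c.1 c.2 c.2.2 fun ζ ζ' => by
      rcases x with z | z | ⟨b, ζ₀⟩
      · exact absurd rfl hx
      · rw [hκ]
        simp only
        rw [G_ld hK]
      · exact absurd rfl hx)
  rw [Fintype.card_fin, Fintype.card_bool, Fintype.card_prod, Fintype.card_fin, Fintype.card_coe] at key
  rwa [show 6 + 4 * S.card = 4 + (2 + 4 * S.card) by ring]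

end Cfsg.Agent.H991.D3
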