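import Cfsg.Agent.H991.D3.Five

/-!
# The three families of lines
-/

set_option autoImplicit false

namespace Cfsg.Agent.H991.D3

open Cfsg Cfsg.Geo Matrix Cfsg.Agent.H876.D3
open LieClassical.HermBasic

variable {K : Type} [Field K] [Fintype K] {q : ℕ}

/-- the parameters of the lines -/
abbrev Ix (q : ℕ) (K : Type) [Field K] := Fin 4 ⊕ (K ⊕ (Fin 4 × {ζ : K // ζ * ζ ^ q = 1}))

/-- the rows -/
def fR (q : ℕ) (μ : K) : Ix q K → (Fin 5 → K) × (Fin 5 → K)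
  | .inl z => ![(![1, 0, 0, 0, 0], ![0, 0, 1, 0, 0]), (![0, 1, 0, 0, 0], ![0, 0, 0, 1, 0]),
      (![1, 0, 0, 0, 0], ![0, 0, 0, 1, 0]), (![0, 1, 0, 0, 0], ![0, 0, 1, 0, 0])] z
  | .inr (.inl z) => (![1, 0, 0, z, 0], ![0, -z ^ q, 1, 0, 0])
  | .inr (.inr (a, ζ)) => ![(![1, μ, 0, 0, (ζ : K)], ![0, 0, 1, 0, 0]), (![1, μ, 0, 0, (ζ : K)], ![0, 0, 0, 1, 0]),
      (![1, 0, 0, 0, 0], ![0, 0, 1, μ, (ζ : K)]), (![0, 1, 0, 0, 0], ![0, 0, 1, μ, (ζ : K)])] a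

/-- the columns -/
def fC (q : ℕ) (μ : K) : Ix q K → (Fin 5 → K) × (Fin 5 → K)
  | .inl z => ![(![0, 1, 0, 0, 0], ![0, 0, 0, 1, 0]), (![1, 0, 0, 0, 0], ![0, 0, 1, 0, 0]),
      (![0, 1, 0, 0, 0], ![0, 0, 1, 0, 0]), (![1, 0, 0, 0, 0], ![0, 0, 0, 1, 0])] z
  | .inr (.inl z) => (![0, 1, z, 0, 0], ![-z ^ q, 0, 0, 1, 0])
  | .inr (.inr (a, ζ)) => ![(![1, μ, 0, 0, (ζ : K)], ![0, 0, 0, 1, 0]), (![1, μ, 0, 0, (ζ : K)], ![0, 0, 1, 0, 0]),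
      (![0, 1, 0, 0, 0], ![0, 0, 1, μ, (ζ : K)]), (![1, 0, 0, 0, 0], ![0, 0, 1, μ, (ζ : K)])] a

variable {η μ : K} (hK : Fintype.card K = q ^ 2)
include hK

theorem G_cc (z z' : Fin 4) : G2 q η (fR q μ (.inl z)) (fC q μ (.inl z')) = if z = z' then 1 else 0 := by
  have h0 : (0 : K) ^ q = 0 := zero_pow_q hK
  fin_cases z <;> fin_cases z' <;> simp [fR, fC, G2, Bf, h0]

theorem G_cl (z : Fin 4) (z' : K) : G2 q η (fR q μ (.inl z)) (fC q μ (.inr (.inl z'))) =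
    if z = 0 then 1 else if z = 1 then z' ^ (q + 1) else 0 := by
  have h0 : (0 : K) ^ q = 0 := zero_pow_q hK
  fin_cases z <;> simp [fR, fC, G2, Bf, h0, neg_pow_q hK, pow_q_pow_q hK, pow_succ, mul_comm]

theorem G_ll (z z' : K) : G2 q η (fR q μ (.inr (.inl z))) (fC q μ (.inr (.inl z'))) =
    (1 + z * z' ^ q) * (1 + z ^ q * z') := by
  have h0 : (0 : K) ^ q = 0 := zero_pow_q hK
  simp [fR, fC, G2, Bf, h0, neg_pow_q hK, pow_q_pow_q hK]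
  left
  ring

theorem G_cd (z : Fin 4) (a : Fin 4) (ζ ζ' : {ζ : K // ζ * ζ ^ q = 1}) :
    G2 q η (fR q μ (.inl z)) (fC q μ (.inr (.inr (a, ζ)))) = G2 q η (fR q μ (.inl z)) (fC q μ (.inr (.inr (a, ζ')))) := by
  have h0 : (0 : K) ^ q = 0 := zero_pow_q hK
  fin_cases z <;> fin_cases a <;> simp [fR, fC, G2, Bf, h0]

theorem G_ld (z : K) (a : Fin 4) (ζ ζ' : {ζ : K // ζ * ζ ^ q = 1}) :
    G2 q η (fR q μ (.inr (.inl z))) (fC q μ (.inr (.inr (a, ζ)))) =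
      G2 q η (fR q μ (.inr (.inl z))) (fC q μ (.inr (.inr (a, ζ')))) := by
  have h0 : (0 : K) ^ q = 0 := zero_pow_q hK
  fin_cases a <;> simp [fR, fC, G2, Bf, h0]

theorem G_dd_ne {a b : Fin 4} (hab : a ≠ b) (ζ₀ ζ ζ' : {ζ : K // ζ * ζ ^ q = 1}) :
    G2 q η (fR q μ (.inr (.inr (a, ζ₀)))) (fC q μ (.inr (.inr (b, ζ)))) =
      G2 q η (fR q μ (.inr (.inr (a, ζ₀)))) (fC q μ (.inr (.inr (b, ζ')))) := by
  have h0 : (0 : K) ^ q = 0 := zero_pow_q hK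
  fin_cases a <;> fin_cases b <;> first
    | exact absurd rfl hab
    | simp [fR, fC, G2, Bf, h0]

theorem G_dd (hμ : μ ^ q + μ + η = 0) (a : Fin 4) (ζ ζ' : {ζ : K // ζ * ζ ^ q = 1}) :
    G2 q η (fR q μ (.inr (.inr (a, ζ)))) (fC q μ (.inr (.inr (a, ζ')))) = η * ((ζ : K) * (ζ' : K) ^ q - 1) := by
  have h0 : (0 : K) ^ q = 0 := zero_pow_q hK
  fin_cases a <;> simp [fR, fC, G2, Bf, h0] <;> linear_combination hμ

theorem norm_q (ζ : {ζ : K // ζ * ζ ^ q = 1}) : (ζ : K) * (ζ : K) ^ q = 1 := ζ.2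

theorem iso_fR (hμ : μ ^ q + μ + η = 0) (x : Ix q K) : Iso q η (fR q μ x) := by
  have h0 : (0 : K) ^ q = 0 := zero_pow_q hK
  rcases x with z | z | ⟨a, ζ⟩
  · have h1 := G_cc (η := η) (μ := μ) hK z z
    rw [if_pos rfl] at h1
    refine ⟨?_, ?_, ?_, ?_, _, by rw [h1]; exact one_ne_zero⟩ <;> fin_cases z <;> simp [fR, Bf, h0]
  · have h1 := G_ll (η := η) (μ := μ) hK z 0
    rw [h0, mul_zero, mul_zero, add_zero, mul_one] at h1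
    refine ⟨?_, ?_, ?_, ?_, _, by rw [h1]; exact one_ne_zero⟩ <;>
      simp [fR, Bf, h0, neg_pow_q hK, pow_q_pow_q hK]
  · have hζ := norm_q hK ζ
    have h1 : ∃ y, G2 q η (fR q μ (.inr (.inr (a, ζ)))) y = 1 := by
      fin_cases a
      · exact ⟨fC q μ (.inl 0), by simp [fR, fC, G2, Bf, h0]⟩
      · exact ⟨fC q μ (.inl 2), by simp [fR, fC, G2, Bf, h0]⟩
      · exact ⟨fC q μ (.inl 0), by simp [fR, fC, G2, Bf, h0]⟩
      · exact ⟨fC q μ (.inl 3), by simp [fR, fC, G2, Bf, h0]⟩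
    obtain ⟨y, hy⟩ := h1
    refine ⟨?_, ?_, ?_, ?_, y, by rw [hy]; exact one_ne_zero⟩ <;> fin_cases a <;> simp [fR, Bf, h0] <;>
      linear_combination hμ + η * hζ

theorem iso_fC (hμ : μ ^ q + μ + η = 0) (x : Ix q K) : Iso q η (fC q μ x) := by
  have h0 : (0 : K) ^ q = 0 := zero_pow_q hK
  rcases x with z | z | ⟨a, ζ⟩
  · have h1 : G2 q η (fC q μ (.inl z)) (fR q μ (.inl z)) = 1 := by
      fin_cases z <;> simp [fR, fC, G2, Bf, h0]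
    refine ⟨?_, ?_, ?_, ?_, _, by rw [h1]; exact one_ne_zero⟩ <;> fin_cases z <;> simp [fC, Bf, h0]
  · have h1 : G2 q η (fC q μ (.inr (.inl z))) (fR q μ (.inl 0)) = 1 := by
      simp [fR, fC, G2, Bf, h0]
    refine ⟨?_, ?_, ?_, ?_, _, by rw [h1]; exact one_ne_zero⟩ <;>
      simp [fC, Bf, h0, neg_pow_q hK, pow_q_pow_q hK]
  · have hζ := norm_q hK ζ
    have h1 : ∃ y, G2 q η (fC q μ (.inr (.inr (a, ζ)))) y = 1 := by
      fin_cases a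
      · exact ⟨fC q μ (.inl 2), by simp [fC, G2, Bf, h0]⟩
      · exact ⟨fC q μ (.inl 0), by simp [fC, G2, Bf, h0]⟩
      · exact ⟨fC q μ (.inl 3), by simp [fC, G2, Bf, h0]⟩
      · exact ⟨fC q μ (.inl 0), by simp [fC, G2, Bf, h0]⟩
    obtain ⟨y, hy⟩ := h1
    refine ⟨?_, ?_, ?_, ?_, y, by rw [hy]; exact one_ne_zero⟩ <;> fin_cases a <;> simp [fC, Bf, h0] <;>
      linear_combination hμ + η * hζ

end Cfsg.Agent.H991.D3
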