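import Cfsg.Agent.H876.D3.Base

/-!
# Schur complements and ranks of kernels

`schur` : if `κ (f i) (g j)` is the identity matrix, the rank of `κ` is at least `|α|` plus the rank of the Schur
complement.
-/

set_option autoImplicit false

namespace Cfsg.Agent.H991.D3

open Cfsg.Agent.H876.D3

section

variable {k : Type*} [Field k] {X Y X' Y' : Type*} [Fintype X] [Fintype Y] [Fintype X'] [Fintype Y']

theorem bl_sub_right (κ : X → Y → k) (P : X → k) (Q Q' : Y → k) :
    bl κ P (fun y => Q y - Q' y) = bl κ P Q - bl κ P Q' := by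
  unfold bl
  rw [← Finset.sum_sub_distrib]
  refine Finset.sum_congr rfl fun x _ => ?_
  rw [← Finset.sum_sub_distrib]
  exact Finset.sum_congr rfl fun y _ => by ring

/-- **Schur complements** -/
theorem schur {κ : X → Y → k} {α : Type*} [Fintype α] [DecidableEq α] (f : α → X) (g : α → Y)
    (h : ∀ i j, κ (f i) (g j) = if i = j then 1 else 0) (f' : X' → X) (g' : Y' → Y) {n : ℕ}
    (hn : Rk (fun x y => κ (f' x) (g' y) - ∑ i, κ (f' x) (g i) * κ (f i) (g' y)) n) :
    Rk κ (Fintype.card α + n) := by
  classical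
  obtain ⟨P', Q', e⟩ := hn
  let R : Y' → Y → k := fun y' y => (Pi.single (g' y') 1 : Y → k) y - ∑ i, κ (f i) (g' y') * (Pi.single (g i) 1 : Y → k) y
  have hR : ∀ (x : X) (y' : Y'), bl κ (Pi.single x 1 : X → k) (R y') = κ x (g' y') - ∑ i, κ x (g i) * κ (f i) (g' y') := by
    intro x y'
    rw [bl_sub_right, bl_single, one_mul, mul_one, bl_sum_right]
    congr 1
    exact Finset.sum_congr rfl fun i _ => by rw [bl_single, one_mul, mul_one, mul_comm]
  have key := Rk.add_of (κ := κ) (α := α) (β := Fin n) (P := fun i => (Pi.single (f i) 1 : X → k))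
    (Q := fun j => (Pi.single (g j) 1 : Y → k))
    (P' := fun a x => ∑ x', P' a x' * (Pi.single (f' x') 1 : X → k) x)
    (Q' := fun b y => ∑ y', Q' b y' * R y' y) (fun i j => by rw [bl_single, one_mul, mul_one, h])
    (fun a b => by
      rw [← e a b, bl_sum_left]
      have h1 : ∀ x', bl κ (Pi.single (f' x') 1 : X → k) (fun y => ∑ y', Q' b y' * R y' y) =
          ∑ y', Q' b y' * (κ (f' x') (g' y') - ∑ i, κ (f' x') (g i) * κ (f i) (g' y')) := fun x' => by
        rw [bl_sum_right]
        exact Finset.sum_congr rfl fun y' _ => by rw [hR]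
      simp only [h1]
      simp only [bl, Finset.mul_sum]
      exact Finset.sum_congr rfl fun x _ => Finset.sum_congr rfl fun y _ => by ring)
    (fun i b => by
      rw [bl_sum_right]
      refine Finset.sum_eq_zero fun y' _ => ?_
      rw [hR]
      have h2 : ∑ i', κ (f i) (g i') * κ (f i') (g' y') = κ (f i) (g' y') := by
        rw [Finset.sum_eq_single i]
        · rw [h, if_pos rfl, one_mul]
        · intro i' _ hi'
          rw [h, if_neg (Ne.symm hi'), zero_mul]
        · intro h3; exact absurd (Finset.mem_univ _) h3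
      rw [h2, sub_self, mul_zero])
  rwa [Fintype.card_fin] at key

/-- a diagonal kernel -/
theorem rk_diag {β : Type*} [Fintype β] [DecidableEq β] {κ : β → β → k} {c : β → k} (hc : ∀ b, c b ≠ 0)
    (h : ∀ a b, κ a b = if a = b then c a else 0) : Rk κ (Fintype.card β) := by
  refine Rk.mk (fun i => Pi.single i 1) (fun j => Pi.single j (c j)⁻¹) fun i j => ?_
  rw [bl_single, one_mul, h]
  by_cases hij : i = j
  · subst hij
    rw [if_pos rfl, if_pos rfl, mul_inv_cancel₀ (hc i)]
  · rw [if_neg hij, if_neg hij, zero_mul]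

end

end Cfsg.Agent.H991.D3
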