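import Cfsg.Agent.H991.D3.Schur

/-!
# Families of vectors over some hyperbolic pairs

* `vec W τ C d = ∑ C (a, s) • b (τ a, s) + d`; `herm_vec`;
* `le_finrank_of` : lower bounds for the kernel with a single node from families of vectors at the positions `ι`.
-/

set_option autoImplicit false

namespace Cfsg.Agent.H991.D3

open Cfsg Cfsg.Geo Matrix Cfsg.Agent.H876.D3
open LieClassical.HermBasic LieClassical.HermSiegel Cfsg.Agent.TitsThree.KSideU Cfsg.Agent.TitsThree.KSideUDesc
  Cfsg.Agent.TitsThree.WBridge Cfsg.Agent.TitsThree.SiegelGen Cfsg.Agent.TitsThree.Siegel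
  Cfsg.Agent.TitsThree.WittFrame

variable {K : Type} [Field K] [Fintype K] {N q m : ℕ} {hK : Fintype.card K = q ^ 2} (W : WFrame (PU hK N) m)
  {l s : ℕ}

/-- the vector with the coordinates `C` on the pairs `τ` -/
def vec (τ : Fin l → Fin m) (C : Fin l × Bool → K) (d : Fin N → K) : Fin N → K :=
  ∑ y : Fin l × Bool, C y • (toFrame W).b (τ y.1, y.2) + d

variable {W}

theorem hb_all (x y : Fin m × Bool) :
    hermForm N K q ((toFrame W).b x) ((toFrame W).b y) = if x.1 = y.1 ∧ y.2 = !x.2 then 1 else 0 := by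
  obtain ⟨a, u⟩ := x
  obtain ⟨b, v⟩ := y
  by_cases h : v = !u
  · subst h
    rw [hb_pair]
    simp
  · have h1 : v = u := by cases u <;> cases v <;> simp_all
    subst h1
    rw [hb_iso]
    simp

theorem hb_V0 (x : Fin m × Bool) {d : Fin N → K} (hd : d ∈ W.V0) : hermForm N K q ((toFrame W).b x) d = 0 := by
  obtain ⟨a, u⟩ := x
  cases u
  · exact W.fV0 a hd
  · exact W.eV0 a hd

theorem V0_hb (x : Fin m × Bool) {d : Fin N → K} (hd : d ∈ W.V0) : hermForm N K q d ((toFrame W).b x) = 0 := by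
  obtain ⟨a, u⟩ := x
  cases u
  · exact W.V0f d hd a
  · exact W.V0e d hd a

theorem hb_vec {τ : Fin l → Fin m} {C : Fin l × Bool → K} {d : Fin N → K} (hd : d ∈ W.V0) {a : Fin m}
    (ha : a ∉ Set.range τ) (c : Bool) : hermForm N K q ((toFrame W).b (a, c)) (vec W τ C d) = 0 := by
  unfold vec
  rw [herm_add_right hK, herm_sum_right hK, hb_V0 _ hd, add_zero]
  refine Finset.sum_eq_zero fun y _ => ?_
  rw [herm_smul_right, hb_all, if_neg, mul_zero]
  rintro ⟨h, -⟩
  exact ha ⟨y.1, h.symm⟩

/-- **the form in coordinates** -/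
theorem herm_vec {τ : Fin l → Fin m} (hτ : Function.Injective τ) {C D : Fin l × Bool → K} {d d' : Fin N → K}
    (hd : d ∈ W.V0) (hd' : d' ∈ W.V0) : hermForm N K q (vec W τ C d) (vec W τ D d') =
      ∑ y : Fin l × Bool, C y * D (y.1, !y.2) ^ q + hermForm N K q d d' := by
  have h1 : ∀ y : Fin l × Bool, hermForm N K q ((toFrame W).b (τ y.1, y.2)) (vec W τ D d') = D (y.1, !y.2) ^ q := by
    intro y
    unfold vec
    rw [herm_add_right hK, herm_sum_right hK, hb_V0 _ hd', add_zero, Finset.sum_eq_single (y.1, !y.2)]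
    · rw [herm_smul_right, hb_all]
      simp
    · rintro ⟨a, c⟩ _ hne
      rw [herm_smul_right, hb_all, if_neg, mul_zero]
      rintro ⟨h, h2⟩
      apply hne
      rw [Prod.mk.injEq]
      exact ⟨(hτ h).symm, h2⟩
    · intro h; exact absurd (Finset.mem_univ _) h
  have h2 : hermForm N K q d (vec W τ D d') = hermForm N K q d d' := by
    unfold vec
    rw [herm_add_right hK, herm_sum_right hK]
    have h3 : ∑ y : Fin l × Bool, hermForm N K q d (D y • (toFrame W).b (τ y.1, y.2)) = 0 :=
      Finset.sum_eq_zero fun y _ => by rw [herm_smul_right, V0_hb _ hd, mul_zero]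
    rw [h3, zero_add]
  conv_lhs => rw [vec]
  rw [herm_add_left, herm_sum_left, h2]
  congr 1
  exact Finset.sum_congr rfl fun y _ => by rw [herm_smul_left, h1]

/-- families in coordinates are admissible -/
theorem loc_vec {τ : Fin l → Fin m} (hτ : Function.Injective τ) {ι : Fin s → Fin m} {r : ℕ}
    (hιτ : ∀ a : Fin m, (a : ℕ) < r → a ∉ Set.range ι → a ∉ Set.range τ) {C : Fin s → Fin l × Bool → K}
    {d : Fin s → Fin N → K} (hd : ∀ t, d t ∈ W.V0)
    (hiso : ∀ t t', ∑ y : Fin l × Bool, C t y * C t' (y.1, !y.2) ^ q + hermForm N K q (d t) (d t') = 0)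
    (D : Fin s → Fin l × Bool → K)
    (hdet : (Matrix.of fun t t' => ∑ y : Fin l × Bool, C t y * D t' (y.1, !y.2) ^ q).det ≠ 0) :
    Loc W r ι (fun t => vec W τ (C t) (d t)) where
  perp t a ha ha' c := hb_vec (hd t) (hιτ a ha ha') c
  iso t t' := by rw [herm_vec hτ (hd t) (hd t'), hiso]
  wit := by
    refine ⟨fun t => vec W τ (D t) 0, fun t a ha ha' c => hb_vec W.V0.zero_mem (hιτ a ha ha') c, ?_⟩
    convert hdet using 3
    ext t t'
    rw [herm_vec hτ (hd t) W.V0.zero_mem, herm_zero_right hK, add_zero]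

/-- the column with the integral dual coordinates `B` -/
def col (τ : Fin l → Fin m) (B : Fin s → Fin l × Bool → ℤ) (t : Fin s) : Fin N → K :=
  vec W τ (fun y => (B t (y.1, !y.2) : K)) 0

/-- the row with the integral coordinates `A` -/
def row (τ : Fin l → Fin m) (A : Fin s → Fin l × Bool → ℤ) (t : Fin s) : Fin N → K :=
  vec W τ (fun y => (A t y : K)) 0

theorem int_pow_q (hK : Fintype.card K = q ^ 2) (n : ℤ) : (n : K) ^ q = n := by
  have h := map_intCast (conj hK) n
  rwa [conj_apply] at h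

theorem herm_col {τ : Fin l → Fin m} (hτ : Function.Injective τ) {C : Fin l × Bool → K} {d : Fin N → K}
    (hd : d ∈ W.V0) (B : Fin s → Fin l × Bool → ℤ) (t : Fin s) :
    hermForm N K q (vec W τ C d) (col (W := W) τ B t) = ∑ y : Fin l × Bool, C y * (B t y : K) := by
  unfold col
  rw [herm_vec hτ hd W.V0.zero_mem, herm_zero_right hK, add_zero]
  refine Finset.sum_congr rfl fun y _ => ?_
  rw [int_pow_q hK, Bool.not_not]

theorem gram_int (K : Type) [Field K] (A B : Fin s → Fin l × Bool → ℤ) :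
    (Matrix.of fun t t' => ∑ y, (A t y : K) * (B t' y : K)).det =
      (((Matrix.of fun t t' => ∑ y, A t y * B t' y).det : ℤ) : K) := by
  rw [Int.cast_det]
  congr 1
  ext t t'
  rw [Matrix.of_apply, Matrix.map_apply, Matrix.of_apply]
  push_cast
  rfl

def ngE (l : ℕ) : (Fin l × Bool) ≃ (Fin l × Bool) := ⟨fun y => (y.1, !y.2), fun y => (y.1, !y.2),
  fun y => by simp, fun y => by simp⟩

theorem loc_row {τ : Fin l → Fin m} (hτ : Function.Injective τ) {ι : Fin s → Fin m} {r : ℕ}
    (hιτ : ∀ a : Fin m, (a : ℕ) < r → a ∉ Set.range ι → a ∉ Set.range τ) {A : Fin s → Fin l × Bool → ℤ}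
    (hA : ∀ t t', ∑ y : Fin l × Bool, A t y * A t' (y.1, !y.2) = 0) {B : Fin s → Fin l × Bool → ℤ}
    (hB : (Matrix.of fun t t' => ∑ y, A t y * B t' y).det = 1) : Loc W r ι (row (W := W) τ A) := by
  refine loc_vec hτ hιτ (fun _ => W.V0.zero_mem) (fun t t' => ?_) (fun t y => (B t (y.1, !y.2) : K)) ?_
  · rw [herm_zero_right hK, add_zero]
    have h1 := congrArg (Int.cast : ℤ → K) (hA t t')
    push_cast at h1
    rw [← h1]
    exact Finset.sum_congr rfl fun y _ => by rw [int_pow_q hK]
  · have h1 := gram_int K A B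
    rw [hB, Int.cast_one] at h1
    have h2 : (Matrix.of fun t t' => ∑ y : Fin l × Bool, (A t y : K) * ((B t' ((y.1, !y.2).1, !(y.1, !y.2).2) : ℤ) : K) ^ q).det = 1 := by
      rw [← h1]
      congr 2
      ext t t'
      exact Finset.sum_congr rfl fun y _ => by rw [int_pow_q hK, Bool.not_not]
    rw [h2]
    exact one_ne_zero

theorem loc_col {τ : Fin l → Fin m} (hτ : Function.Injective τ) {ι : Fin s → Fin m} {r : ℕ}
    (hιτ : ∀ a : Fin m, (a : ℕ) < r → a ∉ Set.range ι → a ∉ Set.range τ) {B : Fin s → Fin l × Bool → ℤ}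
    (hB : ∀ t t', ∑ y : Fin l × Bool, B t y * B t' (y.1, !y.2) = 0) {A : Fin s → Fin l × Bool → ℤ}
    (hA : (Matrix.of fun t t' => ∑ y, A t y * B t' y).det = 1) : Loc W r ι (col (W := W) τ B) := by
  have h := loc_row (W := W) hτ hιτ (A := fun t y => B t (y.1, !y.2)) (B := fun t y => A t (y.1, !y.2))
    (fun t t' => by
      rw [← hB t t', ← Equiv.sum_comp (ngE l)]
      exact Finset.sum_congr rfl fun y _ => by simp [ngE]) (by
      rw [← hA, ← Matrix.det_transpose]
      congr 1
      ext t t'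
      rw [Matrix.transpose_apply, Matrix.of_apply, Matrix.of_apply, ← Equiv.sum_comp (ngE l)]
      exact Finset.sum_congr rfl fun y _ => by simp [ngE, mul_comm])
  exact h

section Ker

variable {k : Type*} [Field k] {V : Type*} [AddCommGroup V] [Module k V] [FiniteDimensional k V]
  {r : ℕ} {j : K →+* k} {θ : Fin m → ℕ} {vv : (Fin m → Fin N → K) → V}
  {ff : (Fin m → Fin N → K) → Module.Dual k V}

/-- lower bounds for the kernel with a single node -/
theorem le_finrank_of (h : IsKer q r j θ vv ff) {i : Fin m} (hri : r = i + 1) (hθ : ∀ i', i' ≠ i → θ i' = 0)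
    {ι : Fin s → Fin m} (hι : Function.Injective ι) (hr : ∀ t, (ι t : ℕ) < r) {X Y : Type*} [Fintype X] [Fintype Y]
    {x : X → Fin s → Fin N → K} {y : Y → Fin s → Fin N → K} (hx : ∀ a, Loc W r ι (x a)) (hy : ∀ b, Loc W r ι (y b))
    {n : ℕ} (hn : Rk (fun a b => j (Matrix.of fun t t' => hermForm N K q (x a t) (y b t')).det ^ θ i) n) :
    n ≤ Module.finrank k V := by
  refine h.le_finrank (f := fun a => upd W.e ι (x a)) (g := fun b => upd W.f ι (y b))
    (fun a => pfr_upd hι hr (hx a) true) (fun b => pfr_upd hι hr (hy b) false) (fun a b => ?_) hn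
  rw [Finset.prod_eq_single i]
  · rw [Gr_upd hι (hy b).perp (κ := id) Function.injective_id (i := i) (by omega)
      (fun t => by rw [Fin.le_iff_val_le_val]; have := hr t; simp only [id]; omega) (fun t ht => absurd ⟨t, rfl⟩ ht)]
    rfl
  · intro i' _ hi'
    rw [hθ i' hi', pow_zero]
  · intro h1; exact absurd (Finset.mem_univ _) h1

end Ker

/-- the parameter of the isotropic line -/
theorem exists_param (hK : Fintype.card K = q ^ 2) {k : Type*} [Field k] (j : K →+* k) :
    ∃ w : K, w * w ^ q = 1 ∧ ∀ θ : ℕ, θ ≠ 0 → j ((1 + w) * (1 + w) ^ q) ^ θ - 2 ≠ 0 := by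
  by_cases h2 : (2 : K) = 0
  · have h2k : (2 : k) = 0 := by
      have := congrArg j h2
      rwa [map_ofNat, map_zero] at this
    have h3 := card_norm_eq_one hK
    have h4 : 2 ≤ q := two_le hK
    obtain ⟨⟨w, hw⟩, hne⟩ : ∃ w : {x : K // x * x ^ q = 1}, w ≠ ⟨1, by simp⟩ := by
      by_contra hcon
      push Not at hcon
      have : Subsingleton {x : K // x * x ^ q = 1} := ⟨fun a b => (hcon a).trans (hcon b).symm⟩
      have h5 := Finite.card_le_one_iff_subsingleton.2 this
      omega
    refine ⟨w, hw, fun θ hθ => ?_⟩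
    rw [h2k, sub_zero]
    refine pow_ne_zero _ ((map_ne_zero j).2 ?_)
    rw [Ne, norm_eq_zero hK]
    intro h5
    apply hne
    apply Subtype.ext
    show w = 1
    have h6 : w = -1 := by linear_combination h5
    rw [h6]
    linear_combination -h2
  · refine ⟨-1, ?_, fun θ hθ => ?_⟩
    · rw [neg_pow_q hK, one_pow]; ring
    · rw [add_neg_cancel, zero_mul, map_zero, zero_pow hθ, zero_sub, neg_ne_zero]
      intro h3
      apply h2
      apply j.injective
      rw [map_ofNat, map_zero, h3]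

end Cfsg.Agent.H991.D3
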